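import Cfsg.Agent.Chars.Ito.TwoPrimeCore
import Cfsg.Agent.Chars.GaloisHom.Basic
import Cfsg.Agent.Blocks.Orth.PrincipalGalois

/-!
# The permutation character in degree twice a prime

`TwoPrime.exists_chars`: it is `1 + χ + θ` with rational `χ`, `θ` of degrees `p - 1`, `p`, and the
exceptional virtual characters are `1 - χ + η`.
-/

set_option autoImplicit false

namespace CfsgLib.Chars.Ito

open Cfsg CfsgLib.Chars CfsgLib.Chars.PermChar
open scoped ComplexConjugate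

universe u v

theorem linChar_bijective (A : Type u) [Group A] [Finite A] [IsMulCommutative A] :
    Function.Bijective (linChar (G := A)) :=
  ⟨linChar_injective, fun χ => exists_linChar_eq χ (map_one_eq_one_of_isMulCommutative χ)⟩

/-- The degree is the sum of the multiplicities, for an abelian group. -/
theorem map_one_eq_sum_linChar {A : Type u} [Group A] [Fintype A] [IsMulCommutative A]
    [Fintype (A →* ℂˣ)] {f : A → ℂ} (hf : IsClassFunction A f) :
    f 1 = ∑ l : A →* ℂˣ, classInner f (linChar l : A → ℂ) := by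
  classical
  rw [eq_sum_classInner_mul hf (1 : A)]
  refine (Fintype.sum_bijective _ (linChar_bijective A) _ _ fun l => ?_).symm
  simp

/-- Inner products commute with field automorphisms on functions with fixed values. -/
theorem classInner_ringHom {A : Type u} [Group A] [Fintype A] (σ : ℂ →+* ℂ) {f χ : A → ℂ}
    (hχ : IsCharacter A χ) (hf : ∀ a, σ (f a) = f a) :
    classInner f (fun a => σ (χ a)) = σ (classInner f χ) := by
  rw [classInner_eq_sum_map_inv f (isCharacter_ringHom hχ σ), classInner_eq_sum_map_inv f hχ]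
  simp [map_sum, hf]

/-- A character fixed by every field automorphism is integer valued. -/
theorem exists_int_of_fixed {G : Type u} [Group G] [Fintype G] {χ : G → ℂ} (hχ : IsCharacter G χ)
    (hfix : ∀ σ : ℂ →+* ℂ, ∀ g, σ (χ g) = χ g) (g : G) : ∃ m : ℤ, χ g = m := by
  obtain ⟨n, ρ, hρ⟩ := id hχ
  have hζ := Complex.isPrimitiveRoot_exp (Nat.card G) (Nat.card_pos (α := G)).ne'
  obtain ⟨Q, hQ⟩ := CfsgLib.Chars.Apps.exists_char_poly ρ hζ g
  refine CfsgLib.Blocks.Orth.exists_int_eq_of_const (Nat.card_pos (α := G)) Q _ fun μ hμ => ?_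
  have : NeZero (Nat.card G) := ⟨(Nat.card_pos (α := G)).ne'⟩
  obtain ⟨k, -, rfl⟩ := hζ.eq_pow_of_pow_eq_one ((mem_primitiveRoots (Nat.card_pos (α := G))).mp hμ).pow_eq_one
  have hk : k.Coprime (Nat.card G) :=
    (hζ.pow_iff_coprime (Nat.card_pos (α := G)) k).mp ((mem_primitiveRoots (Nat.card_pos (α := G))).mp hμ)
  obtain ⟨σ, hσ⟩ := CfsgLib.GaloisHom.exists_ringHom_char (Nat.card_pos (α := G)) hk
  rw [← hQ k, hρ, ← hσ hχ g (orderOf_dvd_natCard g), hfix]

/-- A sum whose terms vanish off three indices. -/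
theorem sum_eq_three {ι M : Type*} [Fintype ι] [DecidableEq ι] [AddCommMonoid M] {i j k : ι}
    (hij : i ≠ j) (hik : i ≠ k) (hjk : j ≠ k) (f : ι → M)
    (h0 : ∀ x, x ≠ i → x ≠ j → x ≠ k → f x = 0) : ∑ x, f x = f i + f j + f k := by
  rw [← Finset.sum_subset (Finset.subset_univ {i, j, k}) fun x _ hx => by
    simp only [Finset.mem_insert, Finset.mem_singleton, not_or] at hx
    exact h0 x hx.1 hx.2.1 hx.2.2]
  rw [Finset.sum_insert (by simp [hij, hik]), Finset.sum_pair hjk, add_assoc]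

namespace TwoPrime

variable {G : Type u} [Group G] [Fintype G] {X : Type v} [MulAction G X] [Fintype X]
  {p : ℕ} [hp : Fact p.Prime] {P : Subgroup G} (h : TwoPrime G X P p)
include h hp

/-- The permutation character is not `1` plus an irreducible character. -/
theorem classInner_fixChar_self_ne_two :
    classInner (fixChar G X) (fixChar G X) ≠ 2 := by
  intro h2
  haveI := h.prim
  refine h.not2 (MulAction.is_two_pretransitive_iff.2 fun {a b c d} hab hcd => ?_)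
  obtain ⟨g, hg⟩ := MulAction.exists_smul_eq G a c
  have hq := classInner_fixChar_self (G := G) (Ω := X) c
  rw [h2] at hq
  have hq' : Nat.card (MulAction.orbitRel.Quotient (MulAction.stabilizer G c) X) = 2 := by
    exact_mod_cast hq.symm
  obtain ⟨y, -, hy⟩ := (Nat.card_eq_two_iff' (Quotient.mk'' c :
    MulAction.orbitRel.Quotient (MulAction.stabilizer G c) X)).1 hq'
  have hne : ∀ z : X, z ≠ c → (Quotient.mk'' z :
      MulAction.orbitRel.Quotient (MulAction.stabilizer G c) X) ≠ Quotient.mk'' c := by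
    intro z hz e
    obtain ⟨k, hk⟩ := Quotient.eq''.1 e
    exact hz (hk.symm.trans k.2)
  have hgb : g • b ≠ c := fun e => hab (MulAction.injective g (hg.trans e.symm))
  obtain ⟨k, hk⟩ := Quotient.eq''.1 ((hy _ (hne d (Ne.symm hcd))).trans
    (hy _ (hne _ hgb)).symm)
  refine ⟨(k : G) * g, ?_, ?_⟩
  · rw [mul_smul, hg]; exact k.2
  · rw [mul_smul]; exact hk

/-- The permutation character of degree twice a prime. -/
theorem exists_chars : ∃ χ θ : IrrCharacter G,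
    (∀ g, fixChar G X g = 1 + (χ : G → ℂ) g + (θ : G → ℂ) g) ∧
    (χ : G → ℂ) 1 = (p : ℂ) - 1 ∧ (θ : G → ℂ) 1 = p ∧
    χ ≠ oneChar G ∧ θ ≠ oneChar G ∧ θ ≠ χ ∧
    (∀ g, ∃ m : ℤ, (χ : G → ℂ) g = m) ∧ (∀ g, ∃ m : ℤ, (θ : G → ℂ) g = m) ∧
    (∀ a ∈ P, a ≠ 1 → (χ : G → ℂ) a = -1) ∧
    ∀ ψ : P →* ℂˣ, ψ ≠ 1 → ∃ η : IrrCharacter G, η ≠ oneChar G ∧ η ≠ χ ∧
      ∀ g, vchar P ψ g = 1 - (χ : G → ℂ) g + (η : G → ℂ) g := by
  classical
  haveI := h.prim
  have hD := h.dih
  have hp5 := h.five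
  haveI := Fintype.ofFinite P
  haveI := isCyclic_of_prime_card hD.card
  haveI : IsMulCommutative P := IsCyclic.isMulCommutative
  haveI : Fintype (P →* ℂˣ) := Fintype.ofFinite _
  haveI : Nonempty (IrrCharacter G) := ⟨oneChar G⟩
  obtain ⟨x₀⟩ : Nonempty X := Fintype.card_pos_iff.1 (by rw [h.cardX]; omega)
  have hcardP : Fintype.card (P →* ℂˣ) = p := by
    rw [← Nat.card_eq_fintype_card, Nat.card_eq_of_bijective (linChar (G := P)) (linChar_bijective P),
      card_irrCharacter]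
    rw [← hD.card]
    exact (Nat.card_eq_of_bijective _ ⟨fun x y e => by
      obtain ⟨c, hc⟩ := isConj_iff.1 (ConjClasses.mk_eq_mk_iff_isConj.1 e)
      rwa [mul_comm' c x, mul_inv_cancel_right] at hc, ConjClasses.mk_surjective⟩).symm
  set Ψ := Finset.univ.erase (1 : P →* ℂˣ) with hΨdef
  have hΨ : ∀ ψ, ψ ∈ Ψ ↔ ψ ≠ 1 := fun ψ => by simp [hΨdef]
  have hΨcard : Ψ.card = p - 1 := by
    rw [hΨdef, Finset.card_erase_of_mem (Finset.mem_univ _), Finset.card_univ, hcardP]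
  obtain ⟨ψ₀, hψ₀⟩ : ∃ ψ : P →* ℂˣ, ψ ≠ 1 :=
    Fintype.exists_ne_of_one_lt_card (by rw [hcardP]; omega) 1
  -- multiplicities in the permutation character
  have hπ1 : fixChar G X 1 = ((2 * p : ℕ) : ℂ) := by rw [fixChar_one_eq, h.cardX]
  have hπ0 : ∀ a ∈ P, a ≠ 1 → fixChar G X a = 0 := fun a ha ha1 => by
    rw [fixChar, Nat.cast_eq_zero, Nat.card_eq_zero]
    exact Or.inl ⟨fun x => h.free a ha ha1 x x.2⟩
  obtain ⟨m, hm, hm'⟩ := exists_nat_coeff (isCharacter_fixChar (G := G) (Ω := X))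
  have hw0 : ∀ (z : IrrCharacter G) (l : P →* ℂˣ), ∃ n : ℕ,
      classInner (fun a : P => (z : G → ℂ) a) (linChar l : P → ℂ) = n := fun z l =>
    exists_nat_classInner (isCharacter_restrict (isCharacter_coe z) P) (linChar l)
  choose w hw using hw0
  set D : IrrCharacter G → ℕ := fun z => charDegree (z : G → ℂ) with hDdef
  have hDcast : ∀ z : IrrCharacter G, (z : G → ℂ) 1 = (D z : ℂ) := fun z =>
    (coe_charDegree z).symm
  have hDpos : ∀ z, 0 < D z := fun z => charDegree_pos z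
  have hDw : ∀ z, D z = w z 1 + ∑ ψ ∈ Ψ, w z ψ := fun z => by
    have h0 := map_one_eq_sum_linChar (isClassFunction_of_isCharacter
      (isCharacter_restrict (isCharacter_coe z) P))
    simp only [hw, OneMemClass.coe_one, hDcast] at h0
    rw [← Finset.add_sum_erase _ _ (Finset.mem_univ (1 : P →* ℂˣ)), ← hΨdef] at h0
    exact_mod_cast h0
  have hone1 : classInner (fun a : P => (oneChar G : G → ℂ) a) ((linChar (1 : P →* ℂˣ) : IrrCharacter P) : P → ℂ) = 1 := by
    rw [show (fun a : P => (oneChar G : G → ℂ) a) = (oneChar P : P → ℂ) from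
      funext fun a => by simp]
    exact classInner_self _
  have hw11 : w (oneChar G) 1 = 1 := by
    have := hw (oneChar G) 1
    rw [hone1] at this
    exact_mod_cast this.symm
  have hw1 : ∀ ψ : P →* ℂˣ, ψ ≠ 1 → w (oneChar G) ψ = 0 := fun ψ hψ => by
    have := hw (oneChar G) ψ
    rw [show (fun a : P => (oneChar G : G → ℂ) a) = (oneChar P : P → ℂ) from
      funext fun a => by simp, classInner_of_ne fun e => hψ ((linChar_eq_oneChar_iff ψ).1 e.symm)]
      at this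
    exact_mod_cast this.symm
  have hm1 : m (oneChar G) = 1 := by
    have := hm' (oneChar G)
    rw [oneChar_coe, classInner_fixChar_one x₀] at this
    exact_mod_cast this.symm
  have hF2 : ∀ l : P →* ℂˣ, ∑ z, m z * w z l = 2 := fun l => by
    have e1 : classInner (fun a : P => fixChar G X a) (linChar l : P → ℂ) = 2 := by
      rw [classInner, Finset.sum_eq_single (1 : P) (fun a _ ha => by
        rw [hπ0 a a.2 fun e => ha (Subtype.ext e), zero_mul]) fun hh => absurd (Finset.mem_univ _) hh]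
      rw [OneMemClass.coe_one, hπ1, linChar_map_one, map_one, mul_one, hD.card,
        inv_mul_eq_iff_eq_mul₀ (Nat.cast_ne_zero.2 hp.out.ne_zero)]
      push_cast; ring
    have e2 : (fun a : P => fixChar G X a) =
        ∑ z : IrrCharacter G, (m z : ℂ) • fun a : P => (z : G → ℂ) a := by
      funext a
      have := congrFun hm (a : G)
      simp only [Finset.sum_apply, Pi.smul_apply] at this ⊢
      exact this
    rw [e2, classInner_sum_left] at e1
    simp only [classInner_smul_left, hw] at e1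
    exact_mod_cast e1
  have hdegsum : ∑ z, m z * D z = 2 * p := by
    have := congrFun hm 1
    simp only [Finset.sum_apply, Pi.smul_apply, smul_eq_mul, hπ1, hDcast] at this
    exact_mod_cast this.symm
  -- the constituent containing the principal character of `P`
  obtain ⟨z0, hz0ne, hmz0, hwz0, hz0uniq⟩ : ∃ z0, z0 ≠ oneChar G ∧ m z0 = 1 ∧ w z0 1 = 1 ∧
      ∀ z, z ≠ oneChar G → z ≠ z0 → m z * w z 1 = 0 := by
    have h0 := hF2 1
    rw [← Finset.add_sum_erase _ _ (Finset.mem_univ (oneChar G)), hm1, hw11] at h0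
    obtain ⟨z0, hz0, hne0⟩ := Finset.exists_ne_zero_of_sum_ne_zero
      (show ∑ z ∈ Finset.univ.erase (oneChar G), m z * w z 1 ≠ 0 by omega)
    rw [← Finset.add_sum_erase _ _ hz0] at h0
    have hone : m z0 * w z0 1 = 1 := by omega
    refine ⟨z0, Finset.ne_of_mem_erase hz0, Nat.eq_one_of_mul_eq_one_right hone,
      Nat.eq_one_of_mul_eq_one_left hone, fun z z1 z2 => ?_⟩
    exact Finset.sum_eq_zero_iff.1 (show ∑ z ∈ (Finset.univ.erase (oneChar G)).erase z0,
      m z * w z 1 = 0 by omega) z (by simp [z1, z2])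
  -- it is rational
  have hfix : ∀ σ : ℂ →+* ℂ, ∀ g, σ ((z0 : G → ℂ) g) = (z0 : G → ℂ) g := by
    intro σ
    let t : IrrCharacter G := ⟨fun g => σ ((z0 : G → ℂ) g), isIrrCharacter_ringHom z0.2 σ⟩
    have hmt : m t = 1 := by
      have h0 := hm' t
      rw [show (t : G → ℂ) = fun g => σ ((z0 : G → ℂ) g) from rfl,
        classInner_ringHom σ (isCharacter_coe z0) (fun g => by simp [fixChar]), hm', map_natCast,
        hmz0] at h0
      exact_mod_cast h0.symm
    have hwt : w t 1 = 1 := by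
      have h0 := hw t 1
      have h1 := congrArg σ (hw z0 1)
      rw [map_natCast, hwz0] at h1
      simp only [classInner, map_mul, map_sum, map_inv₀, map_natCast, linChar_apply,
        MonoidHom.one_apply, Units.val_one, map_one] at h1
      simp only [classInner, t, linChar_apply, MonoidHom.one_apply, Units.val_one, map_one, h1]
        at h0
      exact_mod_cast h0.symm
    have htne : t ≠ oneChar G := fun e => hz0ne (Subtype.ext (funext fun g => by
      have h0 := congrArg (fun f : IrrCharacter G => (f : G → ℂ) g) e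
      simp only [t, oneChar_apply] at h0
      rw [oneChar_apply]
      exact σ.injective (h0.trans (map_one σ).symm)))
    intro g
    by_contra hg
    have := hz0uniq t htne fun e => hg (congrArg (fun f : IrrCharacter G => (f : G → ℂ) g) e)
    rw [hmt, hwt] at this
    omega
  have hz0int := exists_int_of_fixed (isCharacter_coe z0) hfix
  obtain ⟨a₀, ha₀, ha₀1⟩ := (Subgroup.bot_or_exists_ne_one P).resolve_left fun hb => by
    have := hD.card
    rw [hb, Subgroup.card_bot] at this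
    exact hp.out.one_lt.ne this
  have hconst : ∀ a ∈ P, a ≠ 1 → (z0 : G → ℂ) a = (z0 : G → ℂ) a₀ := by
    intro a ha ha1
    obtain ⟨k, hk⟩ : ∃ k : ℕ, a₀ ^ k = a :=
      (mem_powers_iff_mem_zpowers.2 (hD.mem_zpowers ha₀ ha₀1 ha))
    have hord : orderOf a₀ = p := by
      rcases (Nat.dvd_prime hp.out).1 (hD.card ▸ Subgroup.orderOf_dvd_natCard P ha₀) with h0 | h0
      · exact absurd (orderOf_eq_one_iff.1 h0) ha₀1
      · exact h0
    have hkc : k.Coprime p := by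
      refine (hp.out.coprime_iff_not_dvd.2 fun hd => ha1 ?_).symm
      rw [← hk]
      exact orderOf_dvd_iff_pow_eq_one.1 (hord ▸ hd)
    obtain ⟨σ, hσ⟩ := CfsgLib.GaloisHom.exists_ringHom_char hp.out.pos hkc
    rw [← hk, ← hσ (isCharacter_coe z0) a₀ (hord ▸ dvd_rfl), hfix]
  set c₀ := (z0 : G → ℂ) a₀ with hc₀
  have hexp0 : ∀ l : P →* ℂˣ, (p : ℂ) * (w z0 l : ℂ) =
      (if l = 1 then c₀ * p else 0) + ((D z0 : ℂ) - c₀) := by
    intro l
    rw [← hw, classInner, hD.card, mul_inv_cancel_left₀ (Nat.cast_ne_zero.2 hp.out.ne_zero)]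
    have e : ∀ a : P, (z0 : G → ℂ) (a : G) * conj ((linChar l : P → ℂ) a) =
        c₀ * conj ((linChar l : P → ℂ) a) + if a = 1 then (D z0 : ℂ) - c₀ else 0 := by
      intro a
      rcases eq_or_ne a 1 with rfl | ha
      · rw [if_pos rfl, OneMemClass.coe_one, hDcast, linChar_map_one, map_one]; ring
      · rw [if_neg ha, hconst a a.2 fun e => ha (Subtype.ext e), add_zero]
    rw [Finset.sum_congr rfl fun a _ => e a, Finset.sum_add_distrib, ← Finset.mul_sum,
      Finset.sum_ite_eq' Finset.univ (1 : P), if_pos (Finset.mem_univ _)]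
    congr 1
    have horth : classInner (oneChar P : P → ℂ) (linChar l : P → ℂ) = if l = 1 then 1 else 0 := by
      rw [classInner_irr]
      refine if_congr ?_ rfl rfl
      rw [eq_comm, linChar_eq_oneChar_iff]
    simp only [classInner, oneChar_apply, one_mul, hD.card,
      inv_mul_eq_iff_eq_mul₀ (Nat.cast_ne_zero.2 hp.out.ne_zero : (p : ℂ) ≠ 0)] at horth
    rw [horth]
    split_ifs <;> ring
  set v₀ := w z0 ψ₀ with hv₀
  have hv : ∀ ψ : P →* ℂˣ, ψ ≠ 1 → w z0 ψ = v₀ := fun ψ hψ => by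
    have h1 := hexp0 ψ
    have h2 := hexp0 ψ₀
    rw [if_neg hψ, ← (if_neg hψ₀ : (if ψ₀ = 1 then c₀ * p else 0) = 0), ← h2] at h1
    exact_mod_cast mul_left_cancel₀ (Nat.cast_ne_zero.2 hp.out.ne_zero) h1
  have hD0 : D z0 = 1 + (p - 1) * v₀ := by
    rw [hDw, hwz0, Finset.sum_congr rfl fun ψ hψ => hv ψ ((hΨ ψ).1 hψ), Finset.sum_const, hΨcard,
      smul_eq_mul]
  have hc₀eq : c₀ = 1 - (v₀ : ℂ) := by
    have h1 := hexp0 1
    have h2 := hexp0 ψ₀
    rw [if_pos rfl, hwz0] at h1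
    rw [if_neg hψ₀, ← hv₀] at h2
    refine mul_left_cancel₀ (Nat.cast_ne_zero.2 hp.out.ne_zero : (p : ℂ) ≠ 0) ?_
    push_cast at h1
    linear_combination h2 - h1
  have hrest2 : ∀ ψ : P →* ℂˣ, ψ ≠ 1 →
      v₀ + ∑ z ∈ (Finset.univ.erase (oneChar G)).erase z0, m z * w z ψ = 2 := fun ψ hψ => by
    have h0 := hF2 ψ
    rwa [← Finset.add_sum_erase _ _ (Finset.mem_univ (oneChar G)),
      ← Finset.add_sum_erase _ _ (Finset.mem_erase.2 ⟨hz0ne, Finset.mem_univ z0⟩), hw1 ψ hψ,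
      mul_zero, zero_add, hmz0, one_mul, hv ψ hψ] at h0
  have hv1 : v₀ = 1 := by
    have := hrest2 ψ₀ hψ₀
    obtain hv | hv | hv : v₀ = 0 ∨ v₀ = 1 ∨ v₀ = 2 := by omega
    · exfalso
      obtain ⟨l, hl⟩ := exists_linChar_eq z0 (by rw [hDcast, hD0, hv]; simp)
      have hl1 : l = 1 := h.hom_eq_one l fun a ha => Units.ext <| by
        rw [← linChar_apply, hl, Units.val_one]
        rcases eq_or_ne a 1 with rfl | ha1
        · rw [hDcast, hD0, hv]; simp
        · rw [hconst a ha ha1, hc₀eq, hv]; simp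
      exact hz0ne (hl ▸ (linChar_eq_oneChar_iff l).2 hl1)
    · exact hv
    · exfalso
      have h0 := hdegsum
      rw [← Finset.add_sum_erase _ _ (Finset.mem_univ (oneChar G)),
        ← Finset.add_sum_erase _ _ (Finset.mem_erase.2 ⟨hz0ne, Finset.mem_univ z0⟩), hm1, hmz0,
        hD0, hv, show D (oneChar G) = 1 from charDegree_eq_of_map_one (by simp)] at h0
      have hzero : ∀ z, z ≠ oneChar G → z ≠ z0 → m z = 0 := fun z z1 z2 =>
        (Nat.mul_eq_zero.1 (Finset.sum_eq_zero_iff.1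
          (show ∑ z ∈ (Finset.univ.erase (oneChar G)).erase z0, m z * D z = 0 by omega) z
          (by simp [z1, z2]))).resolve_right (hDpos z).ne'
      refine h.classInner_fixChar_self_ne_two ?_
      rw [classInner_eq_expansion (isClassFunction_of_isCharacter isCharacter_fixChar)
        (fun z => (m z : ℤ)) (fun z => (m z : ℤ)) (fun z => by rw [hm']; simp)
        (fun z => by rw [hm']; simp), ← Finset.add_sum_erase _ _ (Finset.mem_univ (oneChar G)),
        ← Finset.add_sum_erase _ _ (Finset.mem_erase.2 ⟨hz0ne, Finset.mem_univ z0⟩),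
        Finset.sum_eq_zero fun z hz => by
          simp only [Finset.mem_erase] at hz
          rw [hzero z hz.2.1 hz.1]; simp, hm1, hmz0]
      norm_num
  have hD0' : D z0 = p := by rw [hD0, hv1]; omega
  have hc₀0 : c₀ = 0 := by rw [hc₀eq, hv1]; simp
  -- the further constituent met by each exceptional character
  have hex1 : ∀ ψ : P →* ℂˣ, ψ ≠ 1 → ∃ z, z ≠ oneChar G ∧ z ≠ z0 ∧ m z = 1 ∧ w z ψ = 1 ∧
      ∀ y, y ≠ oneChar G → y ≠ z0 → y ≠ z → m y * w y ψ = 0 := fun ψ hψ => by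
    have h0 := hrest2 ψ hψ
    rw [hv1] at h0
    obtain ⟨z, hz, hne0⟩ := Finset.exists_ne_zero_of_sum_ne_zero
      (show ∑ z ∈ (Finset.univ.erase (oneChar G)).erase z0, m z * w z ψ ≠ 0 by omega)
    rw [← Finset.add_sum_erase _ _ hz] at h0
    have hone : m z * w z ψ = 1 := by omega
    simp only [Finset.mem_erase] at hz
    refine ⟨z, hz.2.1, hz.1, Nat.eq_one_of_mul_eq_one_right hone,
      Nat.eq_one_of_mul_eq_one_left hone, fun y y1 y2 y3 => ?_⟩
    exact Finset.sum_eq_zero_iff.1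
      (show ∑ y ∈ ((Finset.univ.erase (oneChar G)).erase z0).erase z, m y * w y ψ = 0 by omega) y
      (by simp [y1, y2, y3])
  choose! z₁ hz₁one hz₁0 hmz₁ hwz₁ hz₁uniq using hex1
  have hu0 : ∀ z, z ≠ oneChar G → z ≠ z0 → m z ≠ 0 → w z 1 = 0 := fun z z1 z2 hz =>
    (Nat.mul_eq_zero.1 (hz0uniq z z1 z2)).resolve_left hz
  -- coefficients
  set c : (P →* ℂˣ) → IrrCharacter G → ℤ := fun ψ z => (w z 1 : ℤ) - w z ψ with hcdef
  have hc : ∀ (ψ : P →* ℂˣ) (z : IrrCharacter G), classInner (vchar P ψ) (z : G → ℂ) = (c ψ z : ℂ) := fun ψ z => by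
    rw [classInner_vchar ψ (isClassFunction_coe z), ← classInner_conj_symm,
      ← classInner_conj_symm (fun a : P => (z : G → ℂ) a) (linChar ψ : P → ℂ),
      show (oneChar P : P → ℂ) = ((linChar (1 : P →* ℂˣ) : IrrCharacter P) : P → ℂ) from rfl, hw, hw]
    simp [hcdef]
  have hnorm : ∀ ψ φ : P →* ℂˣ, ψ ≠ 1 → φ ≠ 1 → ∑ z, c ψ z * c φ z =
      2 + (if φ = ψ then 1 else 0) + (if φ⁻¹ = ψ then 1 else 0) := fun ψ φ hψ hφ => by
    have := classInner_eq_expansion (isClassFunction_vchar ψ) (c ψ) (c φ) (hc ψ) (hc φ)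
    rw [classInner_vchar_vchar hD ψ φ hψ hφ] at this
    exact_mod_cast this.symm
  have hinv : ∀ ψ : P →* ℂˣ, ψ ≠ 1 → ψ⁻¹ ≠ ψ := fun ψ hψ e => hψ (MonoidHom.ext fun a => by
    have hcard : (ψ a) ^ p = 1 := by rw [← map_pow, ← hD.card, pow_card_eq_one', map_one]
    have hsq : (ψ a) ^ 2 = 1 := by
      rw [sq, mul_eq_one_iff_eq_inv]; exact (DFunLike.congr_fun e a).symm
    refine orderOf_eq_one_iff.1 (Nat.dvd_one.1 ?_)
    rw [← Nat.Coprime.gcd_eq_one ((Nat.coprime_primes hp.out Nat.prime_two).2 hD.odd)]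
    exact Nat.dvd_gcd (orderOf_dvd_of_pow_eq_one hcard) (orderOf_dvd_of_pow_eq_one hsq))
  have hcone : ∀ ψ, ψ ≠ 1 → c ψ (oneChar G) = 1 := fun ψ hψ => by
    simp [hcdef, hw11, hw1 ψ hψ]
  have hcz1 : ∀ ψ, ψ ≠ 1 → c ψ (z₁ ψ) = -1 := fun ψ hψ => by
    simp [hcdef, hu0 _ (hz₁one ψ hψ) (hz₁0 ψ hψ) (by rw [hmz₁ ψ hψ]; simp), hwz₁ ψ hψ]
  have hcm : ∀ ψ, ψ ≠ 1 → ∀ z, z ≠ oneChar G → z ≠ z₁ ψ → m z ≠ 0 → c ψ z = 0 := by
    intro ψ hψ z z1 z2 hz
    rcases eq_or_ne z z0 with rfl | z3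
    · simp [hcdef, hwz0, hv ψ hψ, hv1]
    · have := (Nat.mul_eq_zero.1 (hz₁uniq ψ hψ z z1 z3 z2)).resolve_left hz
      simp [hcdef, hu0 z z1 z3 hz, this]
  have hexη : ∀ ψ : P →* ℂˣ, ψ ≠ 1 → ∃ η, m η = 0 ∧ c ψ η = 1 ∧ D η + 1 = D (z₁ ψ) ∧
      ∀ z, z ≠ oneChar G → z ≠ z₁ ψ → z ≠ η → c ψ z = 0 := fun ψ hψ => by
    have hsum := hnorm ψ ψ hψ hψ
    rw [if_pos rfl, if_neg (hinv ψ hψ), ← Finset.add_sum_erase _ _ (Finset.mem_univ (oneChar G)),
      ← Finset.add_sum_erase _ _ (Finset.mem_erase.2 ⟨hz₁one ψ hψ, Finset.mem_univ (z₁ ψ)⟩),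
      hcone ψ hψ, hcz1 ψ hψ] at hsum
    obtain ⟨η, hη, hη0⟩ := Finset.exists_ne_zero_of_sum_ne_zero
      (show ∑ z ∈ (Finset.univ.erase (oneChar G)).erase (z₁ ψ), c ψ z * c ψ z ≠ 0 by omega)
    rw [← Finset.add_sum_erase _ _ hη] at hsum
    have hnn : 0 ≤ ∑ z ∈ ((Finset.univ.erase (oneChar G)).erase (z₁ ψ)).erase η,
        c ψ z * c ψ z := Finset.sum_nonneg fun z _ => mul_self_nonneg _
    have hpos : 0 < c ψ η * c ψ η := lt_of_le_of_ne (mul_self_nonneg _) (Ne.symm hη0)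
    have hrest : ∀ z, z ≠ oneChar G → z ≠ z₁ ψ → z ≠ η → c ψ z = 0 := fun z z1 z2 z3 =>
      mul_self_eq_zero.1 ((Finset.sum_eq_zero_iff_of_nonneg
        fun z _ => mul_self_nonneg (c ψ z)).1
          (show ∑ z ∈ ((Finset.univ.erase (oneChar G)).erase (z₁ ψ)).erase η,
            c ψ z * c ψ z = 0 by omega) z (by simp [z1, z2, z3]))
    simp only [Finset.mem_erase] at hη
    have hmη : m η = 0 := by
      by_contra hne
      exact left_ne_zero_of_mul hη0 (hcm ψ hψ η hη.2.1 hη.1 hne)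
    have h0 := eq_sum_classInner_mul (isClassFunction_vchar ψ) (1 : G)
    rw [vchar_one, sum_eq_three (Ne.symm (hz₁one ψ hψ)) (Ne.symm hη.2.1) (Ne.symm hη.1) _
      fun z a b d => by rw [hc, hrest z a b d, Int.cast_zero, zero_mul]] at h0
    simp only [hc, hcone ψ hψ, hcz1 ψ hψ, hDcast,
      show D (oneChar G) = 1 from charDegree_eq_of_map_one (by simp)] at h0
    have hcf : c ψ η * D η = (D (z₁ ψ) : ℤ) - 1 := by
      have : ((c ψ η * D η : ℤ) : ℂ) = (((D (z₁ ψ) : ℤ) - 1 : ℤ) : ℂ) := by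
        push_cast at h0 ⊢
        linear_combination -h0
      exact_mod_cast this
    have hfour : c ψ η * c ψ η = 1 := by omega
    have := hDpos η
    have := hDpos (z₁ ψ)
    have hc' : c ψ η = 1 := by
      rcases mul_self_eq_one_iff.1 hfour with e | e
      · exact e
      · rw [e] at hcf; omega
    rw [hc', one_mul] at hcf
    exact ⟨η, hmη, hc', by omega, hrest⟩
  choose! η hmη hcη hDη hrest using hexη
  have hη1 : ∀ ψ, ψ ≠ 1 → η ψ ≠ oneChar G := fun ψ hψ e => by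
    have := hmη ψ hψ; rw [e, hm1] at this; exact one_ne_zero this
  have hηz : ∀ ψ φ, ψ ≠ 1 → φ ≠ 1 → η ψ ≠ z₁ φ := fun ψ φ hψ hφ e => by
    have := hmη ψ hψ; rw [e, hmz₁ φ hφ] at this; exact one_ne_zero this
  have hip : ∀ ψ φ, ψ ≠ 1 → φ ≠ 1 →
      1 + (if z₁ ψ = z₁ φ then 1 else 0) + (if η ψ = η φ then (1 : ℤ) else 0) =
        2 + (if φ = ψ then 1 else 0) + (if φ⁻¹ = ψ then 1 else 0) := fun ψ φ hψ hφ => by
    rw [← hnorm ψ φ hψ hφ, sum_eq_three (Ne.symm (hz₁one ψ hψ)) (Ne.symm (hη1 ψ hψ))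
      (Ne.symm (hηz ψ ψ hψ hψ)) _ fun z a b d => by rw [hrest ψ hψ z a b d, zero_mul],
      hcone ψ hψ, hcone φ hφ, hcz1 ψ hψ, hcη ψ hψ, one_mul, neg_one_mul, one_mul]
    congr 1
    · congr 1
      split_ifs with e
      · rw [e, hcz1 φ hφ, neg_neg]
      · rw [hcm φ hφ _ (hz₁one ψ hψ) e (by rw [hmz₁ ψ hψ]; simp), neg_zero]
    · split_ifs with e
      · rw [e, hcη φ hφ]
      · rw [hrest φ hφ _ (hη1 ψ hψ) (hηz ψ φ hψ hφ) e]
  -- the further constituent is unique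
  have hz₁const : ∀ ψ, ψ ≠ 1 → z₁ ψ = z₁ ψ₀ := by
    by_contra hcon
    push Not at hcon
    obtain ⟨φ₀, hφ₀, hdiff⟩ := hcon
    have hne_eq : ∀ ψ φ, ψ ≠ 1 → φ ≠ 1 → z₁ ψ ≠ z₁ φ → η ψ = η φ := fun ψ φ hψ hφ hne => by
      have := hip ψ φ hψ hφ
      rw [if_neg hne] at this
      by_contra he
      rw [if_neg he] at this
      split_ifs at this <;> omega
    have hηeq : ∀ ψ φ, ψ ≠ 1 → φ ≠ 1 → η ψ = η φ := fun ψ φ hψ hφ => by
      by_cases e : z₁ ψ = z₁ φ
      · by_cases e0 : z₁ ψ = z₁ ψ₀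
        · have hne : z₁ ψ ≠ z₁ φ₀ := fun e' => hdiff (e'.symm.trans e0)
          exact (hne_eq ψ φ₀ hψ hφ₀ hne).trans (hne_eq φ φ₀ hφ hφ₀ (e ▸ hne)).symm
        · exact (hne_eq ψ ψ₀ hψ hψ₀ e0).trans (hne_eq φ ψ₀ hφ hψ₀ (e ▸ e0)).symm
      · exact hne_eq ψ φ hψ hφ e
    have hfib : ∀ φ, φ ≠ 1 → w (z₁ ψ₀) φ ≠ 0 → (φ = ψ₀ ∨ φ = ψ₀⁻¹) ∧ w (z₁ ψ₀) φ = 1 := by
      intro φ hφ hne
      have e : z₁ ψ₀ = z₁ φ := by
        by_contra e
        have h0 := hz₁uniq φ hφ _ (hz₁one ψ₀ hψ₀) (hz₁0 ψ₀ hψ₀) e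
        rw [hmz₁ ψ₀ hψ₀, one_mul] at h0
        exact hne h0
      refine ⟨?_, e ▸ hwz₁ φ hφ⟩
      have := hip ψ₀ φ hψ₀ hφ
      rw [if_pos e, if_pos (hηeq ψ₀ φ hψ₀ hφ)] at this
      by_contra hh
      push Not at hh
      rw [if_neg hh.1, if_neg fun h' => hh.2 (by rw [← h']; exact MonoidHom.ext fun a => (inv_inv (φ a)).symm)] at this
      omega
    have hD2 : D (z₁ ψ₀) ≤ 2 := by
      rw [hDw, hu0 _ (hz₁one ψ₀ hψ₀) (hz₁0 ψ₀ hψ₀) (by rw [hmz₁ ψ₀ hψ₀]; simp), zero_add,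
        ← Finset.sum_filter_ne_zero]
      refine (Finset.sum_le_card_nsmul _ _ 1 fun φ hφ => ?_).trans ?_
      · simp only [Finset.mem_filter, hΨ] at hφ
        exact (hfib φ hφ.1 hφ.2).2.le
      · rw [smul_eq_mul, mul_one]
        refine (Finset.card_le_card (t := {ψ₀, ψ₀⁻¹}) fun φ hφ => ?_).trans Finset.card_le_two
        simp only [Finset.mem_filter, hΨ] at hφ
        rcases (hfib φ hφ.1 hφ.2).1 with e | e <;> simp [e]
    have hDη1 : D (η ψ₀) = 1 := by
      have := hDη ψ₀ hψ₀; have := hDpos (η ψ₀); omega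
    obtain ⟨l, hl⟩ := exists_linChar_eq (η ψ₀) (by rw [hDcast, hDη1]; simp)
    have hwη : w (η ψ₀) 1 ≠ 0 := by
      intro h0
      have := hcη ψ₀ hψ₀
      simp only [hcdef, h0] at this
      omega
    have hl1 : l.comp P.subtype = 1 := by
      by_contra hne
      refine hwη (Nat.cast_injective (R := ℂ) ?_)
      rw [← hw, ← hl, show (fun a : P => (linChar l : G → ℂ) a) =
        (linChar (l.comp P.subtype) : P → ℂ) from funext fun a => by simp,
        classInner_of_ne fun e => hne (linChar_injective e), Nat.cast_zero]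
    have := h.hom_eq_one l fun a ha => DFunLike.congr_fun hl1 (⟨a, ha⟩ : P)
    exact hη1 ψ₀ hψ₀ (hl ▸ (linChar_eq_oneChar_iff l).2 this)
  set χ := z₁ ψ₀ with hχdef
  have hDχ : D χ = p - 1 := by
    rw [hDw, hu0 _ (hz₁one ψ₀ hψ₀) (hz₁0 ψ₀ hψ₀) (by rw [hmz₁ ψ₀ hψ₀]; simp), zero_add,
      Finset.sum_congr rfl fun ψ hψ => (show w χ ψ = 1 by
        rw [← hz₁const ψ ((hΨ ψ).1 hψ)]; exact hwz₁ ψ ((hΨ ψ).1 hψ)),
      Finset.sum_const, hΨcard, smul_eq_mul, mul_one]
  have hother : ∀ z, z ≠ oneChar G → z ≠ z0 → z ≠ χ → m z = 0 := by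
    intro z a b d
    have h0 := hdegsum
    rw [← Finset.add_sum_erase _ _ (Finset.mem_univ (oneChar G)),
      ← Finset.add_sum_erase _ _ (Finset.mem_erase.2 ⟨hz0ne, Finset.mem_univ z0⟩),
      ← Finset.add_sum_erase _ _ (show χ ∈ (Finset.univ.erase (oneChar G)).erase z0 by
        simp [hχdef, hz₁one ψ₀ hψ₀, hz₁0 ψ₀ hψ₀]),
      hm1, hmz0, hD0', hmz₁ ψ₀ hψ₀, hDχ,
      show D (oneChar G) = 1 from charDegree_eq_of_map_one (by simp)] at h0
    exact (Nat.mul_eq_zero.1 (Finset.sum_eq_zero_iff.1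
      (show ∑ z ∈ ((Finset.univ.erase (oneChar G)).erase z0).erase χ, m z * D z = 0 by omega) z
      (by simp [a, b, d]))).resolve_right (hDpos z).ne'
  have hπ : ∀ g, fixChar G X g = 1 + (χ : G → ℂ) g + (z0 : G → ℂ) g := fun g => by
    rw [congrFun hm g, Finset.sum_apply, sum_eq_three (Ne.symm (hz₁one ψ₀ hψ₀)) hz0ne.symm
      (hz₁0 ψ₀ hψ₀) _ fun z a b d => by rw [hother z a d b]; simp,
      Pi.smul_apply, Pi.smul_apply, Pi.smul_apply, hm1, hmz0, hmz₁ ψ₀ hψ₀, oneChar_apply]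
    simp [hχdef]
  refine ⟨χ, z0, hπ, ?_, by rw [hDcast, hD0'], hz₁one ψ₀ hψ₀, hz0ne, Ne.symm (hz₁0 ψ₀ hψ₀),
    fun g => ?_, hz0int, fun a ha ha1 => ?_, fun ψ hψ => ⟨η ψ, hη1 ψ hψ,
      hηz ψ ψ₀ hψ hψ₀, fun g => ?_⟩⟩
  · rw [hDcast, hDχ, Nat.cast_sub (by omega), Nat.cast_one]
  · obtain ⟨k, hk⟩ := hz0int g
    refine ⟨(Nat.card (MulAction.fixedBy X g) : ℤ) - 1 - k, ?_⟩
    have := hπ g
    rw [hk, show fixChar G X g = (Nat.card (MulAction.fixedBy X g) : ℂ) from rfl] at this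
    push_cast
    linear_combination -this
  · have := hπ a
    rw [hπ0 a ha ha1, hconst a ha ha1, hc₀0] at this
    linear_combination -this
  · rw [eq_sum_classInner_mul (isClassFunction_vchar ψ) g,
      sum_eq_three (Ne.symm (hz₁one ψ hψ)) (Ne.symm (hη1 ψ hψ)) (Ne.symm (hηz ψ ψ hψ hψ)) _
        fun z a b d => by rw [hc, hrest ψ hψ z a b d, Int.cast_zero, zero_mul],
      hc, hc, hc, hcone ψ hψ, hcz1 ψ hψ, hcη ψ hψ, hz₁const ψ hψ, oneChar_apply]
    push_cast
    ring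

end TwoPrime

end CfsgLib.Chars.Ito
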