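import Cfsg.Agent.Chars.Basic
import Cfsg.Agent.Chars.FrobSchur.Basic

/-!
# The alternating square of a character

`isCharacter_altSq`: `g ↦ (χ g ^ 2 - χ (g * g)) / 2` is a character.
-/

set_option autoImplicit false

namespace CfsgLib.Chars.Ito

open Cfsg CfsgLib.Chars CfsgLib.FrobSchur Representation
open scoped Matrix

universe u

variable {G : Type u} [Group G]

/-- The alternating square of a class function. -/
noncomputable def altSq (χ : G → ℂ) : G → ℂ := fun g => (χ g ^ 2 - χ (g * g)) / 2

variable {n : Type*} [Fintype n] [DecidableEq n]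

/-- Congruence by the matrices of a representation. -/
noncomputable def congrRep (X : G →* Matrix n n ℂ) : Representation ℂ G (Matrix n n ℂ) where
  toFun g := (LinearMap.mulLeft ℂ (X g)).comp (LinearMap.mulRight ℂ (X g)ᵀ)
  map_one' := by ext M : 1; simp
  map_mul' g h := by
    ext M : 1
    simp [Matrix.transpose_mul, Matrix.mul_assoc]

theorem congrRep_apply (X : G →* Matrix n n ℂ) (g : G) (M : Matrix n n ℂ) :
    congrRep X g M = X g * M * (X g)ᵀ := by
  simp [congrRep, Matrix.mul_assoc]

/-- The skew-symmetric matrices. -/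
noncomputable def skewRep (X : G →* Matrix n n ℂ) : Subrepresentation (congrRep X) where
  toSubmodule :=
    { carrier := {M | Mᵀ = -M}
      add_mem' := fun {a b} (ha : aᵀ = -a) (hb : bᵀ = -b) => show (a + b)ᵀ = -(a + b) by
        rw [Matrix.transpose_add, ha, hb, neg_add]
      zero_mem' := show (0 : Matrix n n ℂ)ᵀ = -0 by simp
      smul_mem' := fun c {a} (ha : aᵀ = -a) => show (c • a)ᵀ = -(c • a) by
        rw [Matrix.transpose_smul, ha, smul_neg] }
  apply_mem_toSubmodule := fun g M (hM : Mᵀ = -M) => show (congrRep X g M)ᵀ = -congrRep X g M by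
    rw [congrRep_apply, Matrix.transpose_mul, Matrix.transpose_mul, Matrix.transpose_transpose, hM]
    simp [Matrix.mul_assoc]

theorem character_skewRep (X : G →* Matrix n n ℂ) (g : G) :
    (skewRep X).toRepresentation.character g = ((X g).trace ^ 2 - (X (g * g)).trace) / 2 := by
  classical
  let S := (skewRep X).toSubmodule
  let Q : Matrix n n ℂ →ₗ[ℂ] Matrix n n ℂ := (2⁻¹ : ℂ) • (LinearMap.id - transp)
  let f := (congrRep X g).comp Q
  have hQS : ∀ M, Q M ∈ S := fun M => show (Q M)ᵀ = -Q M by
    simp [Q, transp_apply, smul_sub]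
  have hfS : ∀ M, f M ∈ S := fun M => (skewRep X).apply_mem_toSubmodule g (hQS M)
  have hfix : ∀ M ∈ S, f M = congrRep X g M := fun M (hM : Mᵀ = -M) => by
    show congrRep X g (Q M) = _
    congr 1
    simp [Q, transp_apply, hM, smul_add, ← add_smul]
    norm_num
  have h1 : LinearMap.trace ℂ _ (f.restrict (p := S) (q := S) fun M _ => hfS M) =
      LinearMap.trace ℂ _ f := by
    rw [show f.restrict (p := S) (q := S) (fun M _ => hfS M) = (f.codRestrict S hfS) ∘ₗ S.subtype
      from rfl, LinearMap.trace_comp_comm']
    rfl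
  have h2 : (skewRep X).toRepresentation g = f.restrict (p := S) (q := S) fun M _ => hfS M :=
    LinearMap.ext fun M => Subtype.ext (hfix M.1 M.2).symm
  rw [Representation.character, h2, h1]
  have h3 : LinearMap.trace ℂ _ (congrRep X g) = (X g).trace ^ 2 := by
    rw [trace_linearMap_matrix]
    simp [congrRep_apply, Matrix.mul_apply, Matrix.single_apply, Matrix.trace, sq,
      Finset.mul_sum, Finset.sum_mul, ite_and]
    exact Finset.sum_comm
  have h4 : LinearMap.trace ℂ _ ((congrRep X g).comp transp) = (X (g * g)).trace := by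
    rw [trace_linearMap_matrix, map_mul]
    simp [congrRep_apply, transp_apply, Matrix.mul_apply, Matrix.single_apply, Matrix.trace, ite_and,
      Finset.sum_mul, Finset.mul_sum]
  simp only [f, Q, LinearMap.comp_smul, LinearMap.comp_sub, LinearMap.comp_id, map_smul, map_sub,
    h3, h4, smul_eq_mul]
  ring

theorem isCharacter_altSq {χ : G → ℂ} (h : IsCharacter G χ) : IsCharacter G (altSq χ) := by
  obtain ⟨d, ρ, rfl⟩ := h
  have : (skewRep (mat ρ)).toRepresentation.character = altSq ρ.character := funext fun g => by
    rw [character_skewRep, trace_mat, trace_mat]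
    rfl
  rw [← this]
  exact isCharacter_character _

end CfsgLib.Chars.Ito
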