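import Cfsg.Agent.Chars.Ito.AltSquare
import Cfsg.Agent.Chars.PermChar.Suborbit
import Cfsg.Agent.Chars.Induced.Basic
import Cfsg.Agent.PermGroups.PrimeDegree
import Cfsg.Agent.PermGroups.Burnside

/-!
# Prime degree with dihedral Sylow normaliser (Itô)

`three_transitive`: the group is triply transitive and only the identity fixes three points.
-/

set_option autoImplicit false

namespace CfsgLib.Chars.Ito

open Cfsg CfsgLib.Chars CfsgLib.Chars.PermChar
open scoped ComplexConjugate

universe u v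

variable {G : Type u} [Group G] [Fintype G] {p : ℕ} [hp : Fact p.Prime]

/-- A Sylow subgroup `P` of order `p`, self-centralising, inverted inside its normaliser of order
`2 * p`. -/
structure DihedralSylow (P : Subgroup G) (p : ℕ) : Prop where
  card : Nat.card P = p
  odd : p ≠ 2
  inv : ∀ x : G, x ∈ Subgroup.normalizer (P : Set G) → x ∉ P → ∀ a ∈ P, x⁻¹ * a * x = a⁻¹
  cnorm : Nat.card (Subgroup.normalizer (P : Set G)) = 2 * p

namespace DihedralSylow

variable {P : Subgroup G} (h : DihedralSylow P p)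
include h hp

omit [Fintype G] in
theorem mem_zpowers {a x : G} (ha : a ∈ P) (ha1 : a ≠ 1) (hx : x ∈ P) : x ∈ Subgroup.zpowers a := by
  have h1 := mem_zpowers_of_prime_card (g := (⟨a, ha⟩ : P)) (g' := ⟨x, hx⟩) h.card
    fun e => ha1 (congrArg Subtype.val e)
  obtain ⟨k, hk⟩ := Subgroup.mem_zpowers_iff.1 h1
  exact Subgroup.mem_zpowers_iff.2 ⟨k, congrArg Subtype.val hk⟩

omit [Fintype G] in
theorem mem_normalizer [Finite G] {a x : G} (ha : a ∈ P) (ha1 : a ≠ 1) (hax : x⁻¹ * a * x ∈ P) :
    x ∈ Subgroup.normalizer (P : Set G) := by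
  have hsub : ∀ y ∈ P, x⁻¹ * y * x ∈ P := fun y hy => by
    obtain ⟨k, rfl⟩ := Subgroup.mem_zpowers_iff.1 (h.mem_zpowers ha ha1 hy)
    have : x⁻¹ * a ^ k * x = (x⁻¹ * a * x) ^ k := by
      rw [show x⁻¹ * a * x = MulAut.conj x⁻¹ a by simp, ← map_zpow]
      simp
    rw [this]
    exact zpow_mem hax k
  refine inv_mem_iff.1 ?_
  refine Subgroup.mem_normalizer_iff.2 fun y => ⟨fun hy => by simpa using hsub y hy, fun hy => ?_⟩
  have hsurj : ∀ z ∈ P, ∃ w ∈ P, x⁻¹ * w * x = z := fun z hz => by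
    let f : P → P := fun w => ⟨x⁻¹ * w * x, hsub w w.2⟩
    have hf : Function.Injective f := fun u v e => Subtype.ext
      (mul_left_cancel (mul_right_cancel (congrArg Subtype.val e : x⁻¹ * (u : G) * x = x⁻¹ * v * x)))
    obtain ⟨w, hw⟩ := (Finite.injective_iff_surjective.1 hf) ⟨z, hz⟩
    exact ⟨w, w.2, congrArg Subtype.val hw⟩
  obtain ⟨w, hw, hwy⟩ := hsurj _ hy
  have : w = y := by simpa using hwy
  exact this ▸ hw

theorem indFun_apply (θ : P → ℂ) {a : G} (ha : a ∈ P) (ha1 : a ≠ 1) :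
    indFun P θ a = θ ⟨a, ha⟩ + θ ⟨a⁻¹, inv_mem ha⟩ := by
  classical
  set N := Subgroup.normalizer (P : Set G) with hN
  have hPN : P ≤ N := Subgroup.le_normalizer
  have key : ∀ x : G, extendByZero P θ (x⁻¹ * a * x) =
      (if x ∈ P then θ ⟨a, ha⟩ else 0) + if x ∈ N ∧ x ∉ P then θ ⟨a⁻¹, inv_mem ha⟩ else 0 := by
    intro x
    by_cases hxP : x ∈ P
    · rw [if_pos hxP, if_neg fun hh => hh.2 hxP, add_zero]
      have e : x⁻¹ * a * x = a := by
        obtain ⟨k, rfl⟩ := Subgroup.mem_zpowers_iff.1 (h.mem_zpowers ha ha1 hxP)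
        group
      rw [e, Induced.extendByZero_mem _ ha]
    by_cases hxN : x ∈ N
    · rw [if_neg hxP, if_pos ⟨hxN, hxP⟩, zero_add, h.inv x hxN hxP a ha,
        Induced.extendByZero_mem _ (inv_mem ha)]
    · rw [if_neg hxP, if_neg fun hh => hxN hh.1, add_zero,
        Induced.extendByZero_notMem _ fun hh => hxN (h.mem_normalizer ha ha1 hh)]
  have cP : (Finset.univ.filter fun x : G => x ∈ P).card = p := by
    rw [← Fintype.card_subtype, ← Nat.card_eq_fintype_card]; exact h.card
  have cN : (Finset.univ.filter fun x : G => x ∈ N ∧ x ∉ P).card = p := by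
    have h1 : (Finset.univ.filter fun x : G => x ∈ N).card = 2 * p := by
      rw [← Fintype.card_subtype, ← Nat.card_eq_fintype_card]; exact h.cnorm
    have h2 := Finset.card_filter_add_card_filter_not (s := Finset.univ.filter fun x : G => x ∈ N)
      (fun x => x ∈ P)
    rw [Finset.filter_filter, Finset.filter_filter, h1] at h2
    rw [show (Finset.univ.filter fun x : G => x ∈ N ∧ x ∈ P) = Finset.univ.filter fun x : G => x ∈ P
      from Finset.filter_congr fun x _ => ⟨fun hh => hh.2, fun hh => ⟨hPN hh, hh⟩⟩, cP] at h2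
    omega
  rw [indFun, h.card, Finset.sum_congr rfl fun x _ => key x, Finset.sum_add_distrib,
    ← Finset.sum_filter, ← Finset.sum_filter, Finset.sum_const, Finset.sum_const, cP, cN,
    nsmul_eq_mul, nsmul_eq_mul, ← mul_add,
    inv_mul_cancel_left₀ (Nat.cast_ne_zero.2 hp.out.ne_zero : (p : ℂ) ≠ 0)]

omit [Fintype G] in
theorem sq_ne_one {a : G} (ha : a ∈ P) (ha1 : a ≠ 1) : a * a ≠ 1 := by
  intro h2
  have hd : orderOf a ∣ 2 := orderOf_dvd_of_pow_eq_one (by rw [sq, h2])
  have hd' : orderOf a ∣ p := h.card ▸ Subgroup.orderOf_dvd_natCard P ha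
  rcases (Nat.dvd_prime Nat.prime_two).1 hd with h0 | h0
  · exact ha1 (orderOf_eq_one_iff.1 h0)
  · rw [h0] at hd'
    exact h.odd ((Nat.prime_dvd_prime_iff_eq Nat.prime_two Fact.out).1 hd').symm

end DihedralSylow

/-! ### The exceptional characters -/

section

variable {P : Subgroup G}

/-- The virtual character `Ind (1 - ψ)`. -/
noncomputable def vchar (P : Subgroup G) (ψ : P →* ℂˣ) : G → ℂ :=
  indFun P ((fun _ => 1) - fun a => (ψ a : ℂ))

theorem isClassFunction_vchar (ψ : P →* ℂˣ) : IsClassFunction G (vchar P ψ) :=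
  Induced.indFun_isClassFunction P _

theorem classInner_vchar [Fintype P] (ψ : P →* ℂˣ) {φ : G → ℂ} (hφ : IsClassFunction G φ) :
    classInner (vchar P ψ) φ =
      classInner (oneChar P : P → ℂ) (fun a : P => φ a) -
        classInner (linChar ψ : P → ℂ) (fun a : P => φ a) := by
  rw [vchar, Induced.classInner_indFun P _ hφ, ← classInner_sub_left]
  congr 1

theorem vchar_one [Fintype P] (ψ : P →* ℂˣ) : vchar P ψ 1 = 0 := by
  rw [vchar, Induced.indFun_one_apply]
  simp

include hp in
theorem vchar_restrict (h : DihedralSylow P p) [Fintype P] (ψ : P →* ℂˣ) :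
    (fun a : P => vchar P ψ a) =
      (2 : ℂ) • (oneChar P : P → ℂ) - (linChar ψ : P → ℂ) - (linChar ψ⁻¹ : P → ℂ) := by
  funext a
  rcases eq_or_ne a 1 with rfl | ha
  · rw [OneMemClass.coe_one, vchar_one]
    simp
    norm_num
  · rw [vchar, h.indFun_apply _ a.2 fun e => ha (Subtype.ext e)]
    simp only [Pi.sub_apply, Pi.smul_apply, oneChar_apply, linChar_apply, MonoidHom.inv_apply,
      smul_eq_mul]
    rw [show (⟨(a : G)⁻¹, inv_mem a.2⟩ : P) = a⁻¹ from rfl, map_inv]
    ring

theorem classInner_vchar_vchar (h : DihedralSylow P p) [Fintype P] [DecidableEq (P →* ℂˣ)]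
    (ψ φ : P →* ℂˣ) (hψ : ψ ≠ 1) (hφ : φ ≠ 1) :
    classInner (vchar P ψ) (vchar P φ) =
      ((2 + (if φ = ψ then 1 else 0) + (if φ⁻¹ = ψ then 1 else 0) : ℤ) : ℂ) := by
  classical
  rw [classInner_vchar ψ (isClassFunction_vchar φ), vchar_restrict h φ]
  have key : ∀ χ : IrrCharacter P, classInner (χ : P → ℂ)
      ((2 : ℂ) • (oneChar P : P → ℂ) - (linChar φ : P → ℂ) - (linChar φ⁻¹ : P → ℂ)) =
      2 * (if χ = oneChar P then 1 else 0) - (if χ = linChar φ then 1 else 0) -
        (if χ = linChar φ⁻¹ then 1 else 0) := fun χ => by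
    rw [← classInner_conj_symm, classInner_sub_left, classInner_sub_left, classInner_smul_left,
      classInner_irr, classInner_irr, classInner_irr]
    simp only [eq_comm (a := oneChar P), eq_comm (a := linChar φ), eq_comm (a := linChar φ⁻¹)]
    split_ifs <;> simp [map_ofNat] <;> norm_num [map_ofNat]
  rw [key, key]
  have e1 : ∀ l : P →* ℂˣ, l ≠ 1 → oneChar P ≠ linChar l := fun l hl hh =>
    hl ((linChar_eq_oneChar_iff l).1 hh.symm)
  rw [if_pos rfl, if_neg (e1 φ hφ), if_neg (e1 _ fun e => hφ (MonoidHom.ext fun a => inv_eq_one.1 (DFunLike.congr_fun e a))), if_neg (Ne.symm (e1 ψ hψ))]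
  simp only [linChar_injective.eq_iff, eq_comm (a := ψ)]
  push_cast
  ring

end

/-! ### The permutation character -/

section

variable {X : Type v} [MulAction G X] [Fintype X]

theorem card_quotient_two [MulAction.IsPretransitive G X]
    (h2 : MulAction.IsMultiplyPretransitive G X 2) {a : X} (hX : 2 ≤ Fintype.card X) :
    Nat.card (MulAction.orbitRel.Quotient (MulAction.stabilizer G a) X) = 2 := by
  classical
  obtain ⟨b, hb⟩ := Fintype.exists_ne_of_one_lt_card hX a
  haveI := Fintype.ofFinite (MulAction.orbitRel.Quotient (MulAction.stabilizer G a) X)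
  have huniv : (Finset.univ : Finset (MulAction.orbitRel.Quotient (MulAction.stabilizer G a) X)) =
      {Quotient.mk'' a, Quotient.mk'' b} := by
    refine Finset.eq_univ_of_forall (fun q => ?_) |>.symm
    induction q using Quotient.inductionOn' with
    | _ y =>
      rcases eq_or_ne y a with rfl | hy
      · exact Finset.mem_insert_self _ _
      · refine Finset.mem_insert_of_mem (Finset.mem_singleton.2 (Quotient.sound' ?_))
        obtain ⟨g, hg1, hg2⟩ := MulAction.is_two_pretransitive_iff.1 h2 hb.symm hy.symm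
        exact ⟨⟨g, hg1⟩, hg2⟩
  rw [Nat.card_eq_fintype_card, ← Finset.card_univ, huniv, Finset.card_insert_of_notMem,
    Finset.card_singleton]
  rw [Finset.mem_singleton, Quotient.eq'']
  rintro ⟨g, hg⟩
  exact hb (MulAction.injective g.1 (hg.trans g.2.symm))

/-- The nontrivial constituent of a doubly transitive permutation character. -/
theorem exists_irr_fixChar [MulAction.IsPretransitive G X]
    (h2 : MulAction.IsMultiplyPretransitive G X 2) (hX : 2 ≤ Fintype.card X) :
    ∃ χ : IrrCharacter G, ∀ g, (χ : G → ℂ) g = fixChar G X g - 1 := by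
  classical
  obtain ⟨a⟩ : Nonempty X := Fintype.card_pos_iff.1 (by omega)
  have h1 := classInner_fixChar_one (G := G) a
  rw [← oneChar_coe] at h1
  obtain ⟨φ, hφ, hsum⟩ := exists_add_of_classInner_ne_zero (isCharacter_fixChar (G := G) (Ω := X))
    (oneChar G) (by rw [h1]; exact one_ne_zero)
  have h3 := classInner_fixChar_self (G := G) a
  rw [card_quotient_two h2 hX] at h3
  have hφ1 : classInner φ (oneChar G : G → ℂ) = 0 := by
    rw [hsum, classInner_add_left, classInner_self] at h1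
    linear_combination h1
  have hirr : classInner φ φ = 1 := by
    rw [hsum, classInner_add_left, ← classInner_conj_symm ((oneChar G : G → ℂ) + φ) (oneChar G : G → ℂ),
      ← classInner_conj_symm ((oneChar G : G → ℂ) + φ) φ, classInner_add_left, classInner_add_left,
      classInner_self, hφ1, ← classInner_conj_symm φ (oneChar G : G → ℂ), hφ1] at h3
    have hr : conj (classInner φ φ) = classInner φ φ := classInner_conj_symm φ φ
    simp only [map_zero, add_zero, zero_add, map_one, hr] at h3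
    push_cast at h3
    linear_combination h3
  refine ⟨⟨φ, isIrrCharacter_of_classInner_self hφ hirr⟩, fun g => ?_⟩
  show φ g = _
  rw [hsum, Pi.add_apply, oneChar_apply]
  ring

variable {P : Subgroup G}

/-- The action of `P` is regular. -/
theorem fixChar_eq_zero (h : DihedralSylow P p) [hp : Fact p.Prime] [FaithfulSMul G X]
    (hX : Fintype.card X = p) {a : G} (ha : a ∈ P) (ha1 : a ≠ 1) : fixChar G X a = 0 := by
  rw [fixChar, Nat.cast_eq_zero, Nat.card_eq_zero]
  left
  refine ⟨fun ⟨x, hx⟩ => ha1 ?_⟩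
  have hd : orderOf (MulAction.toPermHom G X a) ∣ p :=
    (orderOf_map_dvd _ a).trans (h.card ▸ Subgroup.orderOf_dvd_natCard P ha)
  refine (MulAction.toPerm_injective (α := G) (β := X)) ?_
  rcases (Nat.dvd_prime hp.out).1 hd with h0 | h0
  · rw [orderOf_eq_one_iff] at h0
    exact h0.trans (Equiv.ext fun y => by simp)
  · exfalso
    classical
    have hc := Equiv.Perm.isCycle_of_prime_order'' (hX ▸ hp.out) (h0.trans hX.symm)
    have hsupp : (MulAction.toPermHom G X a).support.card = p := by rw [← hc.orderOf, h0]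
    have : x ∈ (MulAction.toPermHom G X a).support := by
      rw [Finset.eq_univ_of_card _ (hsupp.trans hX.symm)]
      exact Finset.mem_univ x
    exact Equiv.Perm.mem_support.1 this hx

end

theorem classInner_eq_expansion {φ ψ : G → ℂ} (hφ : IsClassFunction G φ) (c d : IrrCharacter G → ℤ)
    (hc : ∀ χ : IrrCharacter G, classInner φ (χ : G → ℂ) = (c χ : ℂ))
    (hd : ∀ χ : IrrCharacter G, classInner ψ (χ : G → ℂ) = (d χ : ℂ)) :
    classInner φ ψ = ((∑ χ, c χ * d χ : ℤ) : ℂ) := by
  rw [classInner_eq_sum hφ, Int.cast_sum]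
  refine Finset.sum_congr rfl fun χ _ => ?_
  rw [hc, hd, map_intCast, Int.cast_mul]

/-- In a group of prime degree `p` with Sylow normaliser of order `2 * p`, only the identity fixes
three points, and `p - 2` divides the order. -/
theorem fix_le_two_and_dvd {X : Type v} [MulAction G X] [Fintype X] [FaithfulSMul G X]
    [MulAction.IsPretransitive G X] (h2 : MulAction.IsMultiplyPretransitive G X 2)
    {P : Subgroup G} (h : DihedralSylow P p) (hX : Fintype.card X = p) :
    (∀ g : G, 3 ≤ Nat.card (MulAction.fixedBy X g) → g = 1) ∧ p - 2 ∣ Nat.card G := by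
  classical
  have hp2 : 2 ≤ p := hp.out.two_le
  have hp3 : 3 ≤ p := by have := h.odd; omega
  haveI := Fintype.ofFinite P
  obtain ⟨χ, hχ⟩ := exists_irr_fixChar h2 (hX ▸ hp2)
  have hfix1 : fixChar G X 1 = (p : ℂ) := by rw [fixChar_one_eq, hX]
  have hone : oneChar G ≠ χ := fun e => by
    have := congrArg (fun f : IrrCharacter G => (f : G → ℂ) 1) e
    simp only [hχ, oneChar_apply, hfix1] at this
    have h3 : ((2 : ℕ) : ℂ) = p := by push_cast; linear_combination this
    exact h.odd (by exact_mod_cast h3.symm)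
  -- the coefficients of the virtual characters
  have hint : ∀ (ψ : P →* ℂˣ) (φ : IrrCharacter G), ∃ c : ℤ,
      classInner (vchar P ψ) (φ : G → ℂ) = c := fun ψ φ => by
    obtain ⟨m, hm⟩ := exists_nat_classInner (isCharacter_restrict (isCharacter_coe φ) P) (oneChar P)
    obtain ⟨l, hl⟩ := exists_nat_classInner (isCharacter_restrict (isCharacter_coe φ) P) (linChar ψ)
    refine ⟨(m : ℤ) - l, ?_⟩
    rw [classInner_vchar ψ (isClassFunction_coe φ), ← classInner_conj_symm,
      ← classInner_conj_symm (fun a : P => (φ : G → ℂ) a) (linChar ψ : P → ℂ), hm, hl]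
    simp
  choose c hc using hint
  have hnorm : ∀ ψ φ : P →* ℂˣ, ψ ≠ 1 → φ ≠ 1 → ∑ z, c ψ z * c φ z =
      2 + (if φ = ψ then 1 else 0) + (if φ⁻¹ = ψ then 1 else 0) := fun ψ φ hψ hφ => by
    have := classInner_eq_expansion (isClassFunction_vchar ψ) (c ψ) (c φ) (hc ψ) (hc φ)
    rw [classInner_vchar_vchar h ψ φ hψ hφ] at this
    exact_mod_cast this.symm
  have hinv : ∀ ψ : P →* ℂˣ, ψ ≠ 1 → ψ⁻¹ ≠ ψ := fun ψ hψ e => hψ (MonoidHom.ext fun a => by
    have hcard : (ψ a) ^ p = 1 := by rw [← map_pow, ← h.card, pow_card_eq_one', map_one]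
    have hsq : (ψ a) ^ 2 = 1 := by
      rw [sq, mul_eq_one_iff_eq_inv]; exact (DFunLike.congr_fun e a).symm
    refine orderOf_eq_one_iff.1 (Nat.dvd_one.1 ?_)
    rw [← Nat.Coprime.gcd_eq_one ((Nat.coprime_primes hp.out Nat.prime_two).2 h.odd)]
    exact Nat.dvd_gcd (orderOf_dvd_of_pow_eq_one hcard) (orderOf_dvd_of_pow_eq_one hsq))
  have hP1 : ∀ ψ : P →* ℂˣ, ψ ≠ 1 →
      classInner (linChar ψ : P → ℂ) (oneChar P : P → ℂ) = 0 := fun ψ hψ =>
    classInner_of_ne fun e => hψ ((linChar_eq_oneChar_iff ψ).1 e)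
  have hc1 : ∀ ψ : P →* ℂˣ, ψ ≠ 1 → c ψ (oneChar G) = 1 := fun ψ hψ => by
    have := hc ψ (oneChar G)
    rw [classInner_vchar ψ (isClassFunction_coe _),
      show (fun a : P => (oneChar G : G → ℂ) a) = (oneChar P : P → ℂ) from funext fun a => by simp,
      classInner_self, hP1 ψ hψ, sub_zero] at this
    exact_mod_cast this.symm
  have hcχ : ∀ ψ : P →* ℂˣ, ψ ≠ 1 → c ψ χ = -1 := fun ψ hψ => by
    have := hc ψ χ
    rw [classInner_vchar ψ (isClassFunction_coe _), ← classInner_sub_left] at this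
    have e : classInner ((oneChar P : P → ℂ) - (linChar ψ : P → ℂ)) (fun a : P => (χ : G → ℂ) a) =
        -classInner ((oneChar P : P → ℂ) - (linChar ψ : P → ℂ)) (oneChar P : P → ℂ) := by
      simp only [classInner, ← mul_neg, ← Finset.sum_neg_distrib]
      congr 1
      refine Finset.sum_congr rfl fun a _ => ?_
      rcases eq_or_ne a 1 with rfl | ha
      · simp
      · rw [hχ, fixChar_eq_zero h hX a.2 fun e => ha (Subtype.ext e)]
        simp
    rw [e, classInner_sub_left, classInner_self, hP1 ψ hψ, sub_zero] at this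
    exact_mod_cast this.symm
  -- the third constituent
  have hexp1 : ∀ ψ : P →* ℂˣ, ψ ≠ 1 → ∃ η : IrrCharacter G, η ≠ oneChar G ∧ η ≠ χ ∧
      c ψ η = 1 ∧ (η : G → ℂ) 1 = (p : ℂ) - 2 ∧
      ∀ z, z ≠ oneChar G → z ≠ χ → z ≠ η → c ψ z = 0 := fun ψ hψ => by
    have hsum := hnorm ψ ψ hψ hψ
    rw [if_pos rfl, if_neg (hinv ψ hψ)] at hsum
    rw [← Finset.add_sum_erase _ _ (Finset.mem_univ (oneChar G)),
      ← Finset.add_sum_erase _ _ (Finset.mem_erase.2 ⟨hone.symm, Finset.mem_univ χ⟩),
      hc1 ψ hψ, hcχ ψ hψ] at hsum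
    set R := (Finset.univ.erase (oneChar G)).erase χ with hR
    obtain ⟨η, hη, hη0⟩ := Finset.exists_ne_zero_of_sum_ne_zero
      (show ∑ z ∈ R, c ψ z * c ψ z ≠ 0 by omega)
    rw [← Finset.add_sum_erase _ _ hη] at hsum
    have hnn : 0 ≤ ∑ z ∈ R.erase η, c ψ z * c ψ z :=
      Finset.sum_nonneg fun z _ => mul_self_nonneg _
    have hpos : 0 < c ψ η * c ψ η := lt_of_le_of_ne (mul_self_nonneg _) (Ne.symm hη0)
    have hrest : ∀ z, z ≠ oneChar G → z ≠ χ → z ≠ η → c ψ z = 0 := fun z z1 z2 z3 => by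
      have hmem : z ∈ R.erase η := by simp [hR, z1, z2, z3]
      exact mul_self_eq_zero.1 ((Finset.sum_eq_zero_iff_of_nonneg
        fun z _ => mul_self_nonneg (c ψ z)).1 (by omega) z hmem)
    simp only [hR, Finset.mem_erase] at hη
    refine ⟨η, hη.2.1, hη.1, ?_⟩
    have h0 := eq_sum_classInner_mul (isClassFunction_vchar ψ) (1 : G)
    rw [vchar_one, ← Finset.add_sum_erase _ _ (Finset.mem_univ (oneChar G)),
      ← Finset.add_sum_erase _ _ (Finset.mem_erase.2 ⟨hone.symm, Finset.mem_univ χ⟩),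
      ← Finset.add_sum_erase _ _ (show η ∈ (Finset.univ.erase (oneChar G)).erase χ by
        simp [hη.1, hη.2.1]),
      Finset.sum_eq_zero fun z hz => by
        simp only [Finset.mem_erase] at hz
        rw [hc, hrest z hz.2.2.1 hz.2.1 hz.1, Int.cast_zero, zero_mul]] at h0
    simp only [hc, hc1 ψ hψ, hcχ ψ hψ, hχ, hfix1, oneChar_apply] at h0
    push_cast at h0
    obtain ⟨f, hf0, hf⟩ := exists_pos_natCast_map_one η.2
    rw [hf] at h0
    have hcf : c ψ η * f = (p : ℤ) - 2 := by
      have : ((c ψ η * f : ℤ) : ℂ) = (((p : ℤ) - 2 : ℤ) : ℂ) := by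
        push_cast; linear_combination -h0
      exact_mod_cast this
    have hfour : c ψ η * c ψ η = 1 := by omega
    have hc' : c ψ η = 1 := by
      rcases mul_self_eq_one_iff.1 hfour with e | e
      · exact e
      · rw [e] at hcf; omega
    refine ⟨hc', ?_, hrest⟩
    rw [hc', Int.cast_one] at h0
    rw [hf]
    linear_combination -h0
  haveI : Nonempty (IrrCharacter G) := ⟨oneChar G⟩
  choose! η hη1 hηχ hcη hdeg hrest using hexp1
  have hexp : ∀ ψ : P →* ℂˣ, ψ ≠ 1 → ∀ g : G,
      vchar P ψ g = 1 - ((fixChar G X g) - 1) + (η ψ : G → ℂ) g := fun ψ hψ g => by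
    rw [eq_sum_classInner_mul (isClassFunction_vchar ψ) g,
      ← Finset.add_sum_erase _ _ (Finset.mem_univ (oneChar G)),
      ← Finset.add_sum_erase _ _ (Finset.mem_erase.2 ⟨hone.symm, Finset.mem_univ χ⟩),
      ← Finset.add_sum_erase _ _ (show η ψ ∈ (Finset.univ.erase (oneChar G)).erase χ by
        simp [hηχ ψ hψ, hη1 ψ hψ]),
      Finset.sum_eq_zero fun z hz => by
        simp only [Finset.mem_erase] at hz
        rw [hc, hrest ψ hψ z hz.2.2.1 hz.2.1 hz.1, Int.cast_zero, zero_mul]]
    simp only [hc, hc1 ψ hψ, hcχ ψ hψ, hcη ψ hψ, hχ, oneChar_apply]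
    push_cast
    ring
  -- distinctness
  haveI : Fintype (P →* ℂˣ) := Fintype.ofFinite _
  haveI := isCyclic_of_prime_card h.card
  haveI : IsMulCommutative P := IsCyclic.isMulCommutative
  have hcardP : Fintype.card (P →* ℂˣ) = p := by
    rw [← Nat.card_eq_fintype_card, card_monoidHom_units,
      show commutator P = ⊥ by
        rw [commutator_def, Subgroup.commutator_eq_bot_iff_le_centralizer]
        intro a _
        rw [Subgroup.mem_centralizer_iff]
        exact fun b _ => mul_comm' b a,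
      Subgroup.index_bot, h.card]
  set Ψ := Finset.univ.erase (1 : P →* ℂˣ) with hΨ
  have hfib : ∀ ψ ∈ Ψ, ∀ φ ∈ Ψ, η φ = η ψ → φ = ψ ∨ φ = ψ⁻¹ := by
    intro ψ hψ φ hφ e
    simp only [hΨ, Finset.mem_erase] at hψ hφ
    have hsum := hnorm ψ φ hψ.1 hφ.1
    rw [← Finset.add_sum_erase _ _ (Finset.mem_univ (oneChar G)),
      ← Finset.add_sum_erase _ _ (Finset.mem_erase.2 ⟨hone.symm, Finset.mem_univ χ⟩),
      ← Finset.add_sum_erase _ _ (show η ψ ∈ (Finset.univ.erase (oneChar G)).erase χ by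
        simp [hηχ ψ hψ.1, hη1 ψ hψ.1]),
      Finset.sum_eq_zero fun z hz => by
        simp only [Finset.mem_erase] at hz
        rw [hrest ψ hψ.1 z hz.2.2.1 hz.2.1 hz.1, zero_mul],
      hc1 ψ hψ.1, hc1 φ hφ.1, hcχ ψ hψ.1, hcχ φ hφ.1, hcη ψ hψ.1, ← e, hcη φ hφ.1] at hsum
    by_contra hne
    push Not at hne
    rw [if_neg hne.1, if_neg fun h' => hne.2 (by rw [← h']; exact MonoidHom.ext fun a => (inv_inv (φ a)).symm)] at hsum
    omega
  set S := Ψ.image η with hS
  have hScard : p - 1 ≤ 2 * S.card := by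
    have h1 : Ψ.card ≤ 2 * S.card := Finset.card_le_mul_card_image _ 2 fun z hz => by
      obtain ⟨ψ, hψ, rfl⟩ := Finset.mem_image.1 hz
      refine (Finset.card_le_card (t := {ψ, ψ⁻¹}) fun φ hφ => ?_).trans Finset.card_le_two
      rw [Finset.mem_filter] at hφ
      rcases hfib ψ hψ φ hφ.1 hφ.2 with e | e <;> simp [e]
    rw [hΨ, Finset.card_erase_of_mem (Finset.mem_univ _), Finset.card_univ, hcardP] at h1
    exact h1
  -- the alternating square
  obtain ⟨n, hn, hn'⟩ := exists_nat_coeff (isCharacter_altSq (isCharacter_coe χ))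
  have hn0 : n (oneChar G) = 0 := by
    have hval := hn' (oneChar G)
    simp only [classInner, oneChar_apply, map_one, mul_one] at hval
    have hself := classInner_self χ
    simp only [classInner] at hself
    have hfone : classInner (fixChar G X) (fun _ => 1) = 1 := by
      obtain ⟨a⟩ : Nonempty X := Fintype.card_pos_iff.1 (by omega)
      exact classInner_fixChar_one a
    simp only [classInner, map_one, mul_one] at hfone
    have hG0 : (Nat.card G : ℂ) ≠ 0 := natCard_ne_zero
    rw [inv_mul_eq_iff_eq_mul₀ hG0, mul_one] at hself hfone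
    rw [inv_mul_eq_iff_eq_mul₀ hG0] at hval
    let f : G → ℝ := fun g => (Nat.card (MulAction.fixedBy X g) : ℝ)
    have hfval : ∀ g, fixChar G X g = ((f g : ℝ) : ℂ) := fun g => by simp [fixChar, f]
    have hle : ∀ g, f g ≤ f (g * g) := fun g => by
      refine Nat.cast_le.2 (Nat.card_le_card_of_injective
        (fun x => ⟨x.1, by simp [MulAction.mem_fixedBy, mul_smul, show g • (x.1 : X) = x.1 from x.2]⟩)
        fun x y e => Subtype.ext (congrArg (fun z : MulAction.fixedBy X (g * g) => (z : X)) e))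
    have key : ∀ g, ((((f g - 1) ^ 2 - (f (g * g) - 1)) / 2 : ℝ) : ℂ) = altSq (χ : G → ℂ) g :=
      fun g => by simp only [altSq, hχ, hfval]; push_cast; ring
    have e1 : ∑ g : G, (f g - 1) ^ 2 = (Nat.card G : ℝ) := by
      refine Complex.ofReal_injective ?_
      rw [Complex.ofReal_sum, Complex.ofReal_natCast, ← hself]
      refine Finset.sum_congr rfl fun g _ => ?_
      rw [hχ, hfval, map_sub, Complex.conj_ofReal, map_one]
      push_cast; ring
    have e2 : ∑ g : G, f g = (Nat.card G : ℝ) := by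
      refine Complex.ofReal_injective ?_
      rw [Complex.ofReal_sum, Complex.ofReal_natCast, ← hfone]
      exact Finset.sum_congr rfl fun g _ => (hfval g).symm
    have e3 : ∑ g : G, ((f g - 1) ^ 2 - (f (g * g) - 1)) / 2 =
        (Nat.card G : ℝ) * (n (oneChar G) : ℝ) := by
      refine Complex.ofReal_injective ?_
      rw [Complex.ofReal_sum, Finset.sum_congr rfl fun g _ => key g, hval]
      push_cast; ring
    have e4 : ∑ g : G, ((f g - 1) ^ 2 - (f (g * g) - 1)) / 2 ≤
        ∑ g : G, ((f g - 1) ^ 2 - (f g - 1)) / 2 :=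
      Finset.sum_le_sum fun g _ => by linarith [hle g]
    rw [e3, ← Finset.sum_div, Finset.sum_sub_distrib, Finset.sum_sub_distrib, e1, e2,
      Finset.sum_const, Finset.card_univ, ← Nat.card_eq_fintype_card, nsmul_one, sub_self,
      sub_zero] at e4
    have hG1 : (0 : ℝ) < Nat.card G := Nat.cast_pos.2 Nat.card_pos
    by_contra hne
    have : (1 : ℝ) ≤ n (oneChar G) := Nat.one_le_cast.2 (Nat.one_le_iff_ne_zero.2 hne)
    nlinarith
  have hnη : ∀ ψ : P →* ℂˣ, ψ ≠ 1 → 1 ≤ n (η ψ) := fun ψ hψ => by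
    have e : classInner (vchar P ψ) (altSq (χ : G → ℂ)) =
        ((∑ z, c ψ z * (n z : ℤ) : ℤ) : ℂ) :=
      classInner_eq_expansion (isClassFunction_vchar ψ) (c ψ) (fun z => (n z : ℤ)) (hc ψ)
        (fun z => by rw [hn']; simp)
    have e' : classInner (vchar P ψ) (altSq (χ : G → ℂ)) = 1 := by
      rw [classInner_vchar ψ (isClassFunction_of_isCharacter (isCharacter_altSq (isCharacter_coe χ))),
        ← classInner_sub_left]
      have : classInner ((oneChar P : P → ℂ) - (linChar ψ : P → ℂ))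
          (fun a : P => altSq (χ : G → ℂ) a) =
          classInner ((oneChar P : P → ℂ) - (linChar ψ : P → ℂ)) (oneChar P : P → ℂ) := by
        simp only [classInner]
        congr 1
        refine Finset.sum_congr rfl fun a _ => ?_
        rcases eq_or_ne a 1 with rfl | ha
        · simp
        · have ha' : (a : G) ≠ 1 := fun e => ha (Subtype.ext e)
          simp only [altSq, hχ, fixChar_eq_zero h hX a.2 ha',
            fixChar_eq_zero h hX (mul_mem a.2 a.2) (h.sq_ne_one a.2 ha'), oneChar_apply]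
          norm_num
      rw [this, classInner_sub_left, classInner_self, hP1 ψ hψ, sub_zero]
    rw [e', ← Finset.add_sum_erase _ _ (Finset.mem_univ (oneChar G)),
      ← Finset.add_sum_erase _ _ (Finset.mem_erase.2 ⟨hone.symm, Finset.mem_univ χ⟩),
      ← Finset.add_sum_erase _ _ (show η ψ ∈ (Finset.univ.erase (oneChar G)).erase χ by
        simp [hηχ ψ hψ, hη1 ψ hψ]),
      Finset.sum_eq_zero fun z hz => by
        simp only [Finset.mem_erase] at hz
        rw [hrest ψ hψ z hz.2.2.1 hz.2.1 hz.1, zero_mul],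
      hc1 ψ hψ, hcχ ψ hψ, hcη ψ hψ, hn0] at e
    have e2 : (1 : ℤ) = 1 * ((0 : ℕ) : ℤ) + (-1 * (n χ : ℤ) + (1 * (n (η ψ) : ℤ) + 0)) :=
      by exact_mod_cast e
    omega
  -- degrees
  have hdegS : ∀ z ∈ S, charDegree (z : G → ℂ) = p - 2 := fun z hz => by
    obtain ⟨ψ, hψ, rfl⟩ := Finset.mem_image.1 hz
    simp only [hΨ, Finset.mem_erase] at hψ
    refine charDegree_eq_of_map_one ?_
    rw [hdeg ψ hψ.1, Nat.cast_sub hp2, Nat.cast_ofNat]
  have hnS : ∀ z ∈ S, 1 ≤ n z := fun z hz => by
    obtain ⟨ψ, hψ, rfl⟩ := Finset.mem_image.1 hz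
    simp only [hΨ, Finset.mem_erase] at hψ
    exact hnη ψ hψ.1
  have htot : 2 * ∑ z, n z * charDegree (z : G → ℂ) = (p - 1) * (p - 2) := by
    have h0 := congrFun hn 1
    have : ((2 * ∑ z, n z * charDegree (z : G → ℂ) : ℕ) : ℂ) = (((p - 1) * (p - 2) : ℕ) : ℂ) := by
      simp only [Finset.sum_apply, Pi.smul_apply, smul_eq_mul, altSq, hχ, one_mul, hfix1,
        ← coe_charDegree, ← Nat.cast_mul, ← Nat.cast_sum] at h0
      rw [Nat.cast_mul 2, ← h0]
      push_cast [Nat.cast_sub (show 1 ≤ p by omega), Nat.cast_sub hp2]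
      ring
    exact_mod_cast this
  have hsplit := Finset.sum_add_sum_compl S (fun z => n z * charDegree (z : G → ℂ))
  have hSsum : S.card * (p - 2) ≤ ∑ z ∈ S, n z * charDegree (z : G → ℂ) := by
    rw [← smul_eq_mul, ← Finset.sum_const]
    exact Finset.sum_le_sum fun z hz => by
      rw [hdegS z hz]; exact Nat.le_mul_of_pos_left _ (hnS z hz)
  have hprod : (p - 1) * (p - 2) ≤ 2 * (S.card * (p - 2)) := by
    rw [← mul_assoc]; exact Nat.mul_le_mul_right _ hScard
  have hzero : ∀ z ∉ S, n z = 0 := fun z hz => by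
    have h0 : ∑ z ∈ Sᶜ, n z * charDegree (z : G → ℂ) = 0 := by omega
    exact (Nat.mul_eq_zero.1 (Finset.sum_eq_zero_iff.1 h0 z (Finset.mem_compl.2 hz))).resolve_right
      (charDegree_pos z).ne'
  have heq : 2 * (∑ z ∈ S, n z) = p - 1 := by
    have h0 : 2 * ((∑ z ∈ S, n z) * (p - 2)) = (p - 1) * (p - 2) := by
      have h1 : ∑ z ∈ S, n z * charDegree (z : G → ℂ) = (∑ z ∈ S, n z) * (p - 2) := by
        rw [Finset.sum_mul]; exact Finset.sum_congr rfl fun z hz => by rw [hdegS z hz]
      omega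
    rw [← mul_assoc] at h0
    exact Nat.eq_of_mul_eq_mul_right (by omega) h0
  refine ⟨fun g hg => ?_, ?_⟩
  · by_contra hg1
    have hfix : Nat.card (MulAction.fixedBy X g) < p := by
      rw [← hX, ← Nat.card_eq_fintype_card]
      refine lt_of_le_of_ne (Nat.card_le_card_of_injective _ Subtype.val_injective) fun e => hg1 ?_
      refine MulAction.toPerm_injective (α := G) (β := X) (Equiv.ext fun x => ?_)
      have hsurj : Function.Surjective (Subtype.val : MulAction.fixedBy X g → X) :=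
        ((Nat.bijective_iff_injective_and_card _).2 ⟨Subtype.val_injective, e⟩).2
      obtain ⟨y, rfl⟩ := hsurj x
      rw [MulAction.toPerm_apply, MulAction.toPerm_apply, one_smul]
      exact y.2
    have hnc : ∀ x : G, x⁻¹ * g * x ∉ P := fun x hx => by
      have hne : x⁻¹ * g * x ≠ 1 := fun e => hg1 (by
        have := congrArg (fun y => x * y * x⁻¹) e
        simpa [mul_assoc] using this)
      have hz := fixChar_eq_zero (X := X) h hX hx hne
      rw [fixChar, Nat.cast_eq_zero, Nat.card_eq_zero] at hz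
      obtain ⟨⟨y, hy⟩⟩ : Nonempty (MulAction.fixedBy X g) := (Nat.card_pos_iff.1 (by omega)).1
      rcases hz with hz | hz
      · exact hz.false ⟨x⁻¹ • y, by simp [MulAction.mem_fixedBy, mul_smul, show g • y = y from hy]⟩
      · exact hz.not_finite inferInstance
    have hηg : ∀ z ∈ S, (z : G → ℂ) g = fixChar G X g - 2 := fun z hz => by
      obtain ⟨ψ, hψ, rfl⟩ := Finset.mem_image.1 hz
      simp only [hΨ, Finset.mem_erase] at hψ
      have := hexp ψ hψ.1 g
      rw [show vchar P ψ g = 0 from Induced.indFun_eq_zero_of_forall _ hnc] at this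
      linear_combination -this
    have hval := congrFun hn g
    rw [Finset.sum_apply, ← Finset.sum_add_sum_compl S,
      Finset.sum_eq_zero (s := Sᶜ) fun z hz => by
        rw [hzero z (Finset.mem_compl.1 hz)]; simp,
      add_zero, Finset.sum_congr rfl (g := fun z => (n z : ℂ) * (fixChar G X g - 2)) fun z hz => by
        rw [Pi.smul_apply, smul_eq_mul, hηg z hz],
      ← Finset.sum_mul, ← Nat.cast_sum, altSq, hχ, hχ] at hval
    set f := Nat.card (MulAction.fixedBy X g) with hf
    set F := Nat.card (MulAction.fixedBy X (g * g)) with hF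
    have hFf : f ≤ F := Nat.card_le_card_of_injective
      (fun x => ⟨x.1, by simp [MulAction.mem_fixedBy, mul_smul, show g • (x.1 : X) = x.1 from x.2]⟩)
      fun x y e => Subtype.ext (congrArg (fun z : MulAction.fixedBy X (g * g) => (z : X)) e)
    have hT : ((2 * ∑ z ∈ S, n z : ℕ) : ℂ) = (p : ℂ) - 1 := by
      rw [heq, Nat.cast_sub (by omega), Nat.cast_one]
    rw [show fixChar G X g = (f : ℂ) from rfl, show fixChar G X (g * g) = (F : ℂ) from rfl] at hval
    have hZ : ((f : ℤ) - 1) ^ 2 - ((F : ℤ) - 1) = ((p : ℤ) - 1) * ((f : ℤ) - 2) := by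
      have : ((((f : ℤ) - 1) ^ 2 - ((F : ℤ) - 1) : ℤ) : ℂ) =
          ((((p : ℤ) - 1) * ((f : ℤ) - 2) : ℤ) : ℂ) := by
        push_cast at hval hT ⊢
        linear_combination 2 * hval + ((f : ℂ) - 2) * hT
      exact_mod_cast this
    have hf3 : (3 : ℤ) ≤ f := by exact_mod_cast hg
    have hfp : (f : ℤ) + 1 ≤ p := by exact_mod_cast hfix
    have hFf' : (f : ℤ) ≤ F := by exact_mod_cast hFf
    nlinarith [mul_le_mul_of_nonneg_left hfp (show (0 : ℤ) ≤ (f : ℤ) - 2 by omega)]
  · obtain ⟨ψ, hψ⟩ : ∃ ψ : P →* ℂˣ, ψ ≠ 1 :=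
      Fintype.exists_ne_of_one_lt_card (hcardP ▸ hp.out.one_lt) 1
    rw [← hdegS (η ψ) (Finset.mem_image_of_mem _ (Finset.mem_erase.2 ⟨hψ, Finset.mem_univ _⟩))]
    exact charDegree_dvd_card _

end CfsgLib.Chars.Ito
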