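import Cfsg.Agent.Chars.Ito.PrimeDegree
import Cfsg.Agent.PermPrimes.JordanCycle
import Mathlib.GroupTheory.Transfer
import Mathlib.GroupTheory.Sylow
import Mathlib.GroupTheory.GroupAction.Primitive
import Mathlib.GroupTheory.GroupAction.MultipleTransitivity

/-!
# Degree twice a prime with dihedral Sylow normaliser

`TwoPrime`: the hypotheses; `TwoPrime.of_sylow`: they follow from primitivity, degree `2 * p`,
absence of double transitivity and a Sylow normaliser of order `2 * p`.
-/

set_option autoImplicit false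

namespace CfsgLib.Chars.Ito

open MulAction

universe u v

/-- A primitive group of degree `2 * p`, not doubly transitive, with semiregular Sylow subgroup
`P` having a dihedral normaliser of order `2 * p`. -/
structure TwoPrime (G : Type u) [Group G] [Fintype G] (X : Type v) [MulAction G X] [Fintype X]
    (P : Subgroup G) (p : ℕ) : Prop where
  dih : DihedralSylow P p
  prim : IsPreprimitive G X
  faith : FaithfulSMul G X
  cardX : Fintype.card X = 2 * p
  free : ∀ a ∈ P, a ≠ 1 → ∀ x : X, a • x ≠ x
  five : 5 ≤ p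
  ndvd : ¬ p ∣ P.index
  not2 : ¬ IsMultiplyPretransitive G X 2

variable {G : Type u} [Group G] [Fintype G] {X : Type v} [MulAction G X] [Fintype X]
  {p : ℕ} [hp : Fact p.Prime]

/-- A normal subgroup of order prime to `p` is trivial when `p` divides the degree. -/
theorem eq_bot_of_not_dvd [IsPreprimitive G X] [FaithfulSMul G X] (hd : p ∣ Fintype.card X)
    (M : Subgroup G) [M.Normal] (hM : ¬ p ∣ Nat.card M) : M = ⊥ := by
  by_contra hne
  obtain ⟨m, hm, hm1⟩ := (Subgroup.bot_or_exists_ne_one M).resolve_left hne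
  have hfix : fixedPoints M X ≠ Set.univ := fun h => hm1 (FaithfulSMul.eq_of_smul_eq_smul
    fun x : X => by
      rw [one_smul]
      exact (Set.eq_univ_iff_forall.1 h x) ⟨m, hm⟩)
  haveI := IsQuasiPreprimitive.isPretransitive_of_normal hfix
  obtain ⟨a⟩ : Nonempty X := by
    by_contra hX
    rw [not_nonempty_iff] at hX
    exact hfix (Set.eq_univ_iff_forall.2 fun x => isEmptyElim x)
  refine hM (hd.trans ?_)
  rw [← Nat.card_eq_fintype_card, ← index_stabilizer_of_transitive M a]
  exact Subgroup.index_dvd_card _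

/-- A subgroup of order `p` with normaliser of order `2 * p`, not centralised by it, has dihedral
normaliser. -/
theorem dihedralSylow_of_card {P : Subgroup G} (hPc : Nat.card P = p) (hp2 : p ≠ 2)
    (hN : Nat.card (Subgroup.normalizer (P : Set G)) = 2 * p)
    (hnc : ¬ Subgroup.normalizer (P : Set G) ≤ Subgroup.centralizer (P : Set G)) :
    DihedralSylow P p := by
  refine ⟨hPc, hp2, fun x hxN hxP a ha => ?_, hN⟩
  rcases eq_or_ne a 1 with rfl | ha1
  · group
  set N := Subgroup.normalizer (P : Set G) with hNdef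
  have hidx : (P.subgroupOf N).index = 2 := by
    have h0 := (P.subgroupOf N).card_mul_index
    rw [Nat.card_congr (Subgroup.subgroupOfEquivOfLe Subgroup.le_normalizer).toEquiv, hPc, hN,
      mul_comm 2] at h0
    exact Nat.eq_of_mul_eq_mul_left hp.out.pos h0
  haveI := isCyclic_of_prime_card hPc
  haveI : IsMulCommutative P := IsCyclic.isMulCommutative
  have hPcomm : ∀ u ∈ P, ∀ v ∈ P, u * v = v * u := fun u hu v hv =>
    congrArg Subtype.val (mul_comm' (⟨u, hu⟩ : P) ⟨v, hv⟩)
  have hx2 : x * x ∈ P :=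
    Subgroup.mem_subgroupOf.1 (Subgroup.mul_self_mem_of_index_two hidx (⟨x, hxN⟩ : N))
  have hxa : x⁻¹ * a * x ∈ P := by
    simpa using (Subgroup.mem_normalizer_iff.1 (inv_mem hxN) a).1 ha
  have hord : orderOf a = p := by
    rcases (Nat.dvd_prime hp.out).1 (hPc ▸ Subgroup.orderOf_dvd_natCard P ha) with h0 | h0
    · exact absurd (orderOf_eq_one_iff.1 h0) ha1
    · exact h0
  have hmem : ∀ z ∈ P, ∃ k : ℤ, a ^ k = z := fun z hz => by
    obtain ⟨k, hk⟩ := Subgroup.mem_zpowers_iff.1 (mem_zpowers_of_prime_card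
      (g := (⟨a, ha⟩ : P)) (g' := ⟨z, hz⟩) hPc fun e => ha1 (congrArg Subtype.val e))
    exact ⟨k, congrArg Subtype.val hk⟩
  obtain ⟨k, hk⟩ := hmem _ hxa
  have hcomm : (x * x)⁻¹ * a * (x * x) = a := by
    rw [mul_assoc, hPcomm a ha _ hx2, inv_mul_cancel_left]
  have hkk : a ^ (k * k) = a := by
    conv_rhs => rw [← hcomm]
    rw [show (x * x)⁻¹ * a * (x * x) = x⁻¹ * (x⁻¹ * a * x) * x by group, ← hk,
      show x⁻¹ * a ^ k * x = (x⁻¹ * a * x) ^ k by
        rw [show x⁻¹ * a * x = MulAut.conj x⁻¹ a by simp, ← map_zpow]; simp,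
      ← hk, ← zpow_mul]
  have hdiv : (p : ℤ) ∣ (k - 1) * (k + 1) := by
    rw [← hord]
    refine orderOf_dvd_iff_zpow_eq_one.2 ?_
    rw [show (k - 1) * (k + 1) = k * k + -1 by ring, zpow_add, hkk, zpow_neg_one, mul_inv_cancel]
  rcases (Nat.prime_iff_prime_int.1 hp.out).dvd_mul.1 hdiv with h1 | h1
  · exfalso
    have hfixa : x⁻¹ * a * x = a := by
      rw [← hk, show k = (k - 1) + 1 by ring, zpow_add_one,
        orderOf_dvd_iff_zpow_eq_one.1 (hord ▸ h1), one_mul]
    have hax : Commute a x := by
      show a * x = x * a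
      conv_rhs => rw [← hfixa]
      group
    have hxC : x ∈ Subgroup.centralizer (P : Set G) := fun z hz => by
      obtain ⟨j, rfl⟩ := hmem z hz
      exact (hax.zpow_left j).eq
    refine hnc fun y hyN => ?_
    by_cases hyP : y ∈ P
    · exact fun z hz => hPcomm z hz y hyP
    have hxy : x * y ∈ P := Subgroup.mem_subgroupOf.1
      ((Subgroup.mul_mem_iff_of_index_two hidx (a := (⟨x, hxN⟩ : N)) (b := ⟨y, hyN⟩)).2
        ⟨fun h => absurd h hxP, fun h => absurd h hyP⟩)
    have hy : y = x⁻¹ * (x * y) := by group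
    rw [hy]
    exact mul_mem (inv_mem hxC) fun z hz => hPcomm z hz _ hxy
  · rw [← hk, show k = (k + 1) + -1 by ring, zpow_add,
      orderOf_dvd_iff_zpow_eq_one.1 (hord ▸ h1), one_mul, zpow_neg_one]

namespace TwoPrime

variable {P : Subgroup G} (h : TwoPrime G X P p)
include h hp

theorem nat_card_X : Nat.card X = 2 * p := by rw [Nat.card_eq_fintype_card, h.cardX]

/-- No nontrivial linear character is trivial on `P`. -/
theorem hom_eq_one (l : G →* ℂˣ) (hl : ∀ a ∈ P, l a = 1) : l = 1 := by
  haveI := h.prim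
  haveI := h.faith
  by_contra hne
  set K := l.ker with hK
  have hPK : P ≤ K := fun a ha => hl a ha
  let S : Sylow p G := IsPGroup.toSylow (IsPGroup.of_card (n := 1) (by rw [pow_one, h.dih.card]))
    h.ndvd
  have hSP : (S : Subgroup G) = P := rfl
  set N := Subgroup.normalizer (P : Set G) with hN
  have hnotle : ¬ N ≤ K := fun hle => hne <| by
    have h1 : Subgroup.normalizer ((S : Subgroup G) : Set G) ⊔ K = ⊤ :=
      Sylow.normalizer_sup_eq_top' S hPK
    rw [show Subgroup.normalizer ((S : Subgroup G) : Set G) = N from rfl, sup_eq_right.2 hle] at h1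
    exact MonoidHom.ext fun g => h1.ge (Subgroup.mem_top g)
  have hidx : (P.subgroupOf N).index = 2 := by
    have h0 := (P.subgroupOf N).card_mul_index
    rw [Nat.card_congr (Subgroup.subgroupOfEquivOfLe Subgroup.le_normalizer).toEquiv, h.dih.card,
      h.dih.cnorm, mul_comm 2] at h0
    exact Nat.eq_of_mul_eq_mul_left hp.out.pos h0
  have hNK : ∀ k ∈ K, k ∈ N → k ∈ P := by
    intro k hkK hkN
    by_contra hkP
    refine hnotle fun y hy => ?_
    by_cases hyP : y ∈ P
    · exact hPK hyP
    have hky : k * y ∈ P := Subgroup.mem_subgroupOf.1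
      ((Subgroup.mul_mem_iff_of_index_two hidx (a := (⟨k, hkN⟩ : N)) (b := ⟨y, hy⟩)).2
        ⟨fun h' => absurd h' hkP, fun h' => absurd h' hyP⟩)
    exact (K.mul_mem_cancel_left hkK).1 (hPK hky)
  let SK : Sylow p K := S.subtype hPK
  haveI := isCyclic_of_prime_card h.dih.card
  haveI : IsMulCommutative P := IsCyclic.isMulCommutative
  have hmemSK : ∀ z : K, z ∈ (SK : Subgroup K) ↔ (z : G) ∈ P := fun z => Iff.rfl
  have hC : Subgroup.normalizer ((SK : Subgroup K) : Set K) ≤
      Subgroup.centralizer ((SK : Subgroup K) : Set K) := by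
    intro y hy z hz
    have hyN : (y : G) ∈ N := Subgroup.mem_normalizer_iff.2 fun t => by
      constructor
      · intro ht
        exact (hmemSK _).1 ((Subgroup.mem_normalizer_iff.1 hy ⟨t, hPK ht⟩).1 ((hmemSK _).2 ht))
      · intro ht
        have htK : t ∈ K := by
          have h1 : (y : G)⁻¹ * ((y : G) * t * (y : G)⁻¹) * (y : G) ∈ K :=
            mul_mem (mul_mem (inv_mem y.2) (hPK ht)) y.2
          simpa [mul_assoc] using h1
        exact (hmemSK _).1 ((Subgroup.mem_normalizer_iff.1 hy ⟨t, htK⟩).2 ((hmemSK _).2 ht))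
    exact Subtype.ext (congrArg (fun u : P => (u : G)) (mul_comm' (⟨(z : G), (hmemSK z).1 hz⟩ : P)
      ⟨(y : G), hNK _ y.2 hyN⟩))
  set M := (MonoidHom.transferSylow SK hC).ker with hM
  have hMd : ¬ p ∣ Nat.card M := MonoidHom.not_dvd_card_ker_transferSylow SK hC
  have hMidx : M.index = p := by
    rw [(MonoidHom.ker_transferSylow_isComplement' SK hC).symm.index_eq_card]
    exact (Nat.card_congr (Subgroup.subgroupOfEquivOfLe hPK).toEquiv).trans h.dih.card
  have hMiff : ∀ z : K, z ∈ M ↔ z ^ Nat.card M = 1 := by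
    intro z
    refine ⟨fun hz => ?_, fun hz => ?_⟩
    · exact congrArg Subtype.val (pow_card_eq_one' (x := (⟨z, hz⟩ : M)))
    · have hz' : (z : K ⧸ M) ^ Nat.card M = 1 := by
        rw [← QuotientGroup.mk_pow, hz, QuotientGroup.mk_one]
      have hd : orderOf (z : K ⧸ M) ∣ p := by
        have h1 := orderOf_dvd_natCard (z : K ⧸ M)
        rwa [← Subgroup.index_eq_card, hMidx] at h1
      rw [← QuotientGroup.eq_one_iff, ← orderOf_eq_one_iff]
      rcases (Nat.dvd_prime hp.out).1 hd with h0 | h0
      · exact h0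
      · exact absurd (h0 ▸ orderOf_dvd_of_pow_eq_one hz') hMd
  haveI : (M.map K.subtype).Normal := ⟨by
    rintro _ ⟨z, hz, rfl⟩ g
    have hgz : g * (z : G) * g⁻¹ ∈ K := (MonoidHom.normal_ker l).conj_mem _ z.2 g
    refine ⟨⟨_, hgz⟩, (hMiff _).2 (Subtype.ext ?_), rfl⟩
    show (g * (z : G) * g⁻¹) ^ Nat.card M = 1
    rw [conj_pow, show (z : G) ^ Nat.card M = 1 from congrArg Subtype.val ((hMiff z).1 hz)]
    group⟩
  have hbot : M.map K.subtype = ⊥ := eq_bot_of_not_dvd (X := X) (p := p)
    (h.cardX ▸ dvd_mul_left _ _) _ (by rwa [Subgroup.card_map_of_injective K.subtype_injective])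
  have hMbot : M = ⊥ := (Subgroup.map_eq_bot_iff_of_injective M K.subtype_injective).1 hbot
  have hKc : Nat.card K = p := by
    rw [← M.card_mul_index, hMidx, hMbot, Subgroup.card_bot, one_mul]
  have hKP : P = K := Subgroup.eq_of_le_of_card_ge hPK (by rw [hKc, h.dih.card])
  -- `K` is transitive
  have hfix : fixedPoints K X ≠ Set.univ := fun hu => by
    obtain ⟨a, ha, ha1⟩ := (Subgroup.bot_or_exists_ne_one P).resolve_left fun hb => by
      have := h.dih.card
      rw [hb, Subgroup.card_bot] at this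
      exact hp.out.one_lt.ne this
    obtain ⟨x⟩ : Nonempty X := Fintype.card_pos_iff.1 (by
      have := h.cardX; have := hp.out.pos; omega)
    exact h.free a ha ha1 x ((Set.eq_univ_iff_forall.1 hu x) ⟨a, hPK ha⟩)
  haveI := IsQuasiPreprimitive.isPretransitive_of_normal hfix
  obtain ⟨x⟩ : Nonempty X := Fintype.card_pos_iff.1 (by
    have := h.cardX; have := hp.out.pos; omega)
  have := Subgroup.index_dvd_card (stabilizer K x)
  rw [index_stabilizer_of_transitive K x, h.nat_card_X, hKc] at this
  have := Nat.le_of_dvd hp.out.pos this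
  have := hp.out.pos
  omega

end TwoPrime

/-- The hypotheses follow from primitivity of degree `2 * p` and the order of the normaliser. -/
theorem twoPrime_of_sylow {α : Type u} [Fintype α] [DecidableEq α] (hp3 : 3 < p)
    (hα : Fintype.card α = 2 * p) (H : Subgroup (Equiv.Perm α)) [Fintype H]
    (hprim : IsPreprimitive H α) (hnot2 : ¬ IsMultiplyPretransitive H α 2) (S : Sylow p H)
    (hN : Nat.card (Subgroup.normalizer ((S : Subgroup H) : Set H)) = 2 * p) :
    TwoPrime H α (S : Subgroup H) p := by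
  classical
  have hX : Nat.card α = 2 * p := by rw [Nat.card_eq_fintype_card, hα]
  haveI := hprim
  obtain ⟨x₀⟩ : Nonempty α := Fintype.card_pos_iff.1 (by omega)
  have hpH : p ∣ Nat.card H := by
    refine (dvd_mul_left p 2).trans ?_
    rw [← hX, ← index_stabilizer_of_transitive H x₀]
    exact Subgroup.index_dvd_card _
  have hSc : Nat.card (S : Subgroup H) = p := by
    obtain ⟨n, hn⟩ := IsPGroup.iff_card.1 S.isPGroup'
    have h1 : Nat.card (S : Subgroup H) ∣ 2 * p :=
      hN ▸ Subgroup.card_dvd_of_le Subgroup.le_normalizer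
    have h2 : p ∣ Nat.card (S : Subgroup H) := S.dvd_card_of_dvd_card hpH
    obtain ⟨j, hj⟩ := h2
    rw [hj, mul_comm 2 p] at h1
    rcases (Nat.dvd_prime Nat.prime_two).1 (Nat.dvd_of_mul_dvd_mul_left hp.out.pos h1) with h0 | h0
    · rw [hj, h0, mul_one]
    · exfalso
      have h2 : 2 ∣ p ^ n := ⟨p, by rw [← hn, hj, h0, mul_comm]⟩
      have := (Nat.prime_dvd_prime_iff_eq Nat.prime_two hp.out).1
        (Nat.prime_two.dvd_of_dvd_pow h2)
      omega
  have hfree : ∀ a ∈ (S : Subgroup H), a ≠ 1 → ∀ x : α, a • x ≠ x := by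
    intro a ha ha1
    have hord : orderOf (a : Equiv.Perm α) = p := by
      rw [Subgroup.orderOf_coe]
      rcases (Nat.dvd_prime hp.out).1 (hSc ▸ Subgroup.orderOf_dvd_natCard _ ha) with h0 | h0
      · exact absurd (orderOf_eq_one_iff.1 h0) ha1
      · exact h0
    obtain ⟨n, hn⟩ := Equiv.Perm.cycleType_prime_order (σ := (a : Equiv.Perm α))
      (hord ▸ hp.out)
    have hs : (a : Equiv.Perm α).support.card = (n + 1) * p := by
      rw [← Equiv.Perm.sum_cycleType, hn, hord, Multiset.sum_replicate, smul_eq_mul]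
    have hle : (n + 1) * p ≤ 2 * p := hs ▸ hα ▸ Finset.card_le_univ _
    have hn1 : n ≤ 1 := Nat.succ_le_succ_iff.1 (Nat.le_of_mul_le_mul_right hle hp.out.pos)
    interval_cases n
    · exfalso
      have hc : (a : Equiv.Perm α).IsCycle := Equiv.Perm.card_cycleType_eq_one.1 (by simp [hn])
      have hA := CfsgLib.PermPrimes.alternatingGroup_le_of_primitive_pCycle H hprim hp.out
        (by omega) hc (by simpa using hs) a.2
      refine hnot2 (is_two_pretransitive_iff.2 fun {b c d e} hbc hde => ?_)
      have hm : IsMultiplyPretransitive (alternatingGroup α) α 2 := by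
        haveI : IsMultiplyPretransitive (alternatingGroup α) α (Nat.card α - 2) :=
          alternatingGroup.isMultiplyPretransitive α
        exact isMultiplyPretransitive_of_le (n := Nat.card α - 2) (by omega) (by omega)
      obtain ⟨g, hg1, hg2⟩ := is_two_pretransitive_iff.1 hm hbc hde
      exact ⟨⟨g.1, hA g.2⟩, hg1, hg2⟩
    · intro x hx
      have hu : (a : Equiv.Perm α).support = Finset.univ :=
        Finset.eq_univ_of_card _ (by rw [hs, hα])
      exact Equiv.Perm.mem_support.1 (hu ▸ Finset.mem_univ x) hx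
  have hnc : ¬ Subgroup.normalizer ((S : Subgroup H) : Set H) ≤
      Subgroup.centralizer ((S : Subgroup H) : Set H) := by
    intro hC
    have hd := MonoidHom.not_dvd_card_ker_transferSylow S hC
    have hbot := eq_bot_of_not_dvd (X := α) (p := p) (hα ▸ dvd_mul_left _ _) _ hd
    have hidx := (MonoidHom.ker_transferSylow_isComplement' S hC).symm.index_eq_card
    rw [hbot, Subgroup.index_bot, hSc] at hidx
    have h2 : Nat.card α ∣ Nat.card H :=
      index_stabilizer_of_transitive H x₀ ▸ Subgroup.index_dvd_card _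
    rw [hX, hidx] at h2
    have := Nat.le_of_dvd hp.out.pos h2
    omega
  exact ⟨dihedralSylow_of_card hSc (by omega) hN hnc, hprim, inferInstance, hα, hfree,
    (by
      by_contra h5
      have h4 : p = 4 := by omega
      exact absurd hp.out (h4 ▸ by norm_num)), S.not_dvd_index, hnot2⟩

end CfsgLib.Chars.Ito
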